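import Cfsg.Agent.Lib.Char.Dade
import Cfsg.Agent.Lib.Char.Orthogonality
import Cfsg.Agent.S1525

/-!
# The projection attached to a Dade hypothesis

`dadeProj A L H χ` is the function of `L` equal to the average of `χ` over `a · H a` at `a ∈ A` and zero elsewhere.
It is adjoint to the Dade map, a left inverse of it, and does not increase the norm.  Also the Bessel inequality.
-/

set_option autoImplicit false
set_option linter.unusedSectionVars false
set_option linter.style.haveILetI false

namespace Cfsg.Lib.Char.FT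

open Cfsg Cfsg.Lib.Char
open scoped ComplexConjugate

universe u

variable {G : Type u} [Group G]

open Classical in
/-- The averaged restriction of `χ` to `A`. -/
noncomputable def dadeProj (A : Set G) (L : Subgroup G) (H : G → Subgroup G) (χ : G → ℂ) : L → ℂ := fun a =>
  if (a : G) ∈ A then (Nat.card (H (a : G)) : ℂ)⁻¹ * ∑ᶠ u ∈ (H (a : G) : Set G), χ ((a : G) * u) else 0

section Basic

variable {A : Set G} {L : Subgroup G} {H : G → Subgroup G}

theorem dadeProj_of_notMem (χ : G → ℂ) {a : L} (ha : (a : G) ∉ A) : dadeProj A L H χ a = 0 := by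
  classical exact if_neg ha

theorem dadeProj_of_mem (χ : G → ℂ) {a : L} (ha : (a : G) ∈ A) [Fintype (H (a : G))] :
    dadeProj A L H χ a = (Nat.card (H (a : G)) : ℂ)⁻¹ * ∑ u : H (a : G), χ ((a : G) * u) := by
  classical
  rw [dadeProj, if_pos ha, ← finsum_set_coe_eq_finsum_mem, ← finsum_eq_sum_of_fintype]
  rfl

theorem dadeProj_of_bot (χ : G → ℂ) {a : L} (ha : (a : G) ∈ A) (hH : H (a : G) = ⊥) :
    dadeProj A L H χ a = χ a := by
  classical
  rw [dadeProj, if_pos ha, hH, Subgroup.card_bot, Nat.cast_one, inv_one, one_mul, Subgroup.coe_bot,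
    finsum_mem_singleton, mul_one]

variable [Finite G]

theorem dadeProj_add (χ χ' : G → ℂ) : dadeProj A L H (χ + χ') = dadeProj A L H χ + dadeProj A L H χ' := by
  classical
  funext a
  by_cases ha : (a : G) ∈ A
  · haveI := Fintype.ofFinite (H (a : G))
    simp only [Pi.add_apply, dadeProj_of_mem _ ha, Finset.sum_add_distrib, mul_add]
  · simp [dadeProj_of_notMem _ ha]

theorem dadeProj_smul (c : ℂ) (χ : G → ℂ) : dadeProj A L H (c • χ) = c • dadeProj A L H χ := by
  classical
  funext a
  by_cases ha : (a : G) ∈ A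
  · haveI := Fintype.ofFinite (H (a : G))
    simp only [Pi.smul_apply, smul_eq_mul, dadeProj_of_mem _ ha, ← Finset.mul_sum]
    ring
  · simp [dadeProj_of_notMem _ ha]

theorem dadeProj_sub (χ χ' : G → ℂ) : dadeProj A L H (χ - χ') = dadeProj A L H χ - dadeProj A L H χ' := by
  rw [sub_eq_add_neg, dadeProj_add, ← neg_one_smul ℂ χ', dadeProj_smul, neg_one_smul, ← sub_eq_add_neg]

theorem dadeProj_conj (χ : G → ℂ) : dadeProj A L H (conjFun χ) = conjFun (dadeProj A L H χ) := by
  classical
  funext a
  show _ = conj (dadeProj A L H χ a)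
  by_cases ha : (a : G) ∈ A
  · haveI := Fintype.ofFinite (H (a : G))
    simp only [dadeProj_of_mem _ ha, conjFun, map_mul, map_inv₀, Complex.conj_natCast, map_sum]
  · simp [dadeProj_of_notMem _ ha]

theorem dadeProj_one {a : L} (ha : (a : G) ∈ A) : dadeProj A L H (fun _ => 1) a = 1 := by
  classical
  haveI := Fintype.ofFinite (H (a : G))
  rw [dadeProj_of_mem _ ha, Finset.sum_const, Finset.card_univ, nsmul_eq_mul, mul_one,
    ← Nat.card_eq_fintype_card, inv_mul_cancel₀ (Nat.cast_ne_zero.mpr Nat.card_pos.ne')]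

theorem isClassFunction_dadeProj (hD : DadeHypothesis A L H) {χ : G → ℂ} (hχ : IsClassFunction G χ) :
    IsClassFunction L (dadeProj A L H χ) := by
  classical
  intro a l
  by_cases ha : (a : G) ∈ A
  · have hla : ((l * a * l⁻¹ : L) : G) ∈ A := hD.conj_mem l l.2 _ ha
    haveI := Fintype.ofFinite (H (a : G))
    haveI := Fintype.ofFinite (H ((l * a * l⁻¹ : L) : G))
    rw [dadeProj_of_mem _ ha, dadeProj_of_mem _ hla]
    have e : H ((l * a * l⁻¹ : L) : G) = (H (a : G)).map (MulAut.conj (l : G)).toMonoidHom := hD.H_conj ha l.2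
    have ec : Nat.card (H ((l * a * l⁻¹ : L) : G)) = Nat.card (H (a : G)) := by
      rw [e]
      exact (Nat.card_congr (MulEquiv.subgroupMap (MulAut.conj (l : G)) (H (a : G))).toEquiv).symm
    rw [ec]
    congr 1
    refine (Fintype.sum_equiv ((MulEquiv.subgroupMap (MulAut.conj (l : G)) (H (a : G))).trans
        (MulEquiv.subgroupCongr e.symm)).toEquiv _ _ fun u => ?_).symm
    show χ ((a : G) * u) = χ (((l * a * l⁻¹ : L) : G) * ((l : G) * u * (l : G)⁻¹))
    rw [← hχ ((a : G) * u) l]
    congr 1
    rw [Subgroup.coe_mul, Subgroup.coe_mul, Subgroup.coe_inv]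
    group
  · rw [dadeProj_of_notMem _ ha, dadeProj_of_notMem]
    intro h
    refine ha ?_
    have := hD.conj_mem (l : G)⁻¹ (inv_mem l.2) _ h
    simpa [mul_assoc] using this

/-- The projection is a left inverse of the Dade map. -/
theorem dadeProj_dadeIsometry (hD : DadeHypothesis A L H) {α : L → ℂ} (hα : IsClassFunction L α) {a : L}
    (ha : (a : G) ∈ A) : dadeProj A L H (dadeIsometry A L H α) a = α a := by
  classical
  haveI := Fintype.ofFinite (H (a : G))
  rw [dadeProj_of_mem _ ha, Finset.sum_congr rfl (g := fun _ => α a) fun u _ =>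
      dadeIsometry_eq hD hα ha (x := 1) u.2 (by group), Finset.sum_const, Finset.card_univ, nsmul_eq_mul,
    ← Nat.card_eq_fintype_card, inv_mul_cancel_left₀ (Nat.cast_ne_zero.mpr Nat.card_pos.ne')]

end Basic

section Inner

variable [Fintype G] {A : Set G} {L : Subgroup G} [Fintype L] {H : G → Subgroup G}

/-- The projection is adjoint to the Dade map. -/
theorem classInner_dade_proj (hD : DadeHypothesis A L H) {α : L → ℂ} (hα : IsClassFunction L α)
    (hαA : ∀ x : L, (x : G) ∉ A → α x = 0) {χ : G → ℂ} (hχ : IsClassFunction G χ) :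
    classInner (dadeIsometry A L H α) χ = classInner α (dadeProj A L H χ) := by
  classical
  rw [classInner_dadeIsometry hD hα hχ, classInner]
  congr 1
  refine Finset.sum_congr rfl fun a _ => ?_
  split_ifs with ha
  · rw [dadeProj_of_mem _ ha]
  · rw [hαA a ha, zero_mul]

theorem classInner_proj_dade (hD : DadeHypothesis A L H) {α : L → ℂ} (hα : IsClassFunction L α)
    (hαA : ∀ x : L, (x : G) ∉ A → α x = 0) {χ : G → ℂ} (hχ : IsClassFunction G χ) :
    classInner χ (dadeIsometry A L H α) = classInner (dadeProj A L H χ) α := by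
  rw [← classInner_conj_symm, classInner_dade_proj hD hα hαA hχ, classInner_conj_symm]

/-- The projection decreases the norm, even if only the support of the Dade map is counted on the side of `G`. -/
theorem dadeProj_norm_le (hD : DadeHypothesis A L H) {χ : G → ℂ} (hχ : IsClassFunction G χ) :
    (classInner (dadeProj A L H χ) (dadeProj A L H χ)).re ≤ (Nat.card G : ℝ)⁻¹ *
      ∑ᶠ g ∈ {g : G | ∃ a ∈ A, ∃ u ∈ H a, ∃ x : G, x * g * x⁻¹ = a * u}, ‖χ g‖ ^ 2 := by
  classical
  refine le_trans (le_of_eq ?_) (Cfsg.Agent.S1525.result A L H hD χ hχ (dadeProj A L H χ)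
    fun a ha => by rw [dadeProj, if_pos ha])
  rw [classInner_self, Complex.ofReal_re, finsum_mem_eq_toFinset_sum, Set.toFinset_ofPred, Finset.sum_filter]
  congr 1
  refine Finset.sum_congr rfl fun a _ => ?_
  split_ifs with ha
  · rfl
  · simp [dadeProj_of_notMem χ ha]

/-- The norm of the projection is at most the norm. -/
theorem dadeProj_norm_le_self (hD : DadeHypothesis A L H) {χ : G → ℂ} (hχ : IsClassFunction G χ) :
    (classInner (dadeProj A L H χ) (dadeProj A L H χ)).re ≤ (classInner χ χ).re := by
  classical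
  refine (dadeProj_norm_le hD hχ).trans ?_
  rw [classInner_self, Complex.ofReal_re, finsum_mem_eq_toFinset_sum]
  exact mul_le_mul_of_nonneg_left (Finset.sum_le_sum_of_subset_of_nonneg (Finset.subset_univ _)
    fun g _ _ => by positivity) (by positivity)

end Inner

section Bessel

variable {X : Type u} [Group X] [Fintype X]

/-- The Bessel inequality. -/
theorem sum_norm_sq_le {ι : Type*} (s : Finset ι) (ψ : ι → X → ℂ) [DecidableEq ι]
    (hon : ∀ i ∈ s, ∀ j ∈ s, classInner (ψ i) (ψ j) = if i = j then 1 else 0) (v : X → ℂ) :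
    ∑ i ∈ s, ‖classInner v (ψ i)‖ ^ 2 ≤ (classInner v v).re := by
  set c := fun i => classInner v (ψ i)
  set S := ∑ i ∈ s, c i • ψ i
  have hS : ∀ j ∈ s, classInner S (ψ j) = c j := fun j hj => by
    rw [classInner_sum_left, Finset.sum_eq_single_of_mem j hj]
    · rw [classInner_smul_left, hon j hj j hj, if_pos rfl, mul_one]
    · intro i hi hne
      rw [classInner_smul_left, hon i hi j hj, if_neg hne, mul_zero]
  have hvS : classInner v S = ((∑ i ∈ s, ‖c i‖ ^ 2 : ℝ) : ℂ) := by
    rw [classInner_sum_right, Complex.ofReal_sum]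
    refine Finset.sum_congr rfl fun i _ => ?_
    rw [classInner_smul_right, mul_comm, Complex.ofReal_pow, ← Complex.mul_conj']
  have hSS : classInner S S = ((∑ i ∈ s, ‖c i‖ ^ 2 : ℝ) : ℂ) := by
    rw [show classInner S S = classInner S (∑ i ∈ s, c i • ψ i) from rfl, classInner_sum_right, Complex.ofReal_sum]
    refine Finset.sum_congr rfl fun i hi => ?_
    rw [classInner_smul_right, hS i hi, mul_comm, Complex.ofReal_pow, ← Complex.mul_conj']
  have h := classInner_self_nonneg (v - S)
  rw [classInner_sub_left, classInner_sub_right, classInner_sub_right, hvS, hSS,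
    ← classInner_conj_symm v S, hvS] at h
  simp only [Complex.sub_re, Complex.conj_ofReal, Complex.ofReal_re] at h
  linarith

end Bessel

end Cfsg.Lib.Char.FT
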