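import Cfsg.Agent.Lib.Char.FT.Grid
import Cfsg.Agent.Lib.Char.FT.Projection
import Cfsg.Agent.Lib.Char.CyclicTI
import Cfsg.Agent.Lib.Char.CyclicTIExist
import Cfsg.Agent.Lib.Char.Coherence
import Cfsg.Agent.S1503
import Cfsg.Agent.S1506
import Cfsg.Agent.S1508

/-!
Coefficients of class functions on a cyclic TI family, indexed by the linear characters of the two factors.
-/

set_option autoImplicit false
set_option linter.unusedSectionVars false
set_option linter.style.haveILetI false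

namespace Cfsg.Lib.Char.FT

open Cfsg Cfsg.Lib.Char
open scoped ComplexConjugate

universe u

variable {G : Type u} [Group G]

/-- The linear characters of `W` trivial on `W₂`. -/
abbrev Row (W₁ W₂ : Subgroup G) : Type u :=
  {f : ↥(W₁ ⊔ W₂) →* ℂˣ // ∀ w : ↥(W₁ ⊔ W₂), (w : G) ∈ W₂ → f w = 1}

/-- The linear characters of `W` trivial on `W₁`. -/
abbrev Col (W₁ W₂ : Subgroup G) : Type u :=
  {f : ↥(W₁ ⊔ W₂) →* ℂˣ // ∀ w : ↥(W₁ ⊔ W₂), (w : G) ∈ W₁ → f w = 1}

/-- The principal index of a row. -/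
def row0 (W₁ W₂ : Subgroup G) : Row W₁ W₂ := ⟨1, fun _ _ => rfl⟩

/-- The principal index of a column. -/
def col0 (W₁ W₂ : Subgroup G) : Col W₁ W₂ := ⟨1, fun _ _ => rfl⟩

variable {W₁ W₂ : Subgroup G}

theorem sup_comm_of (hcyc : IsCyclic ↥(W₁ ⊔ W₂)) : ∀ a b : ↥(W₁ ⊔ W₂), a * b = b * a := fun a b => by
  obtain ⟨c, hc⟩ := hcyc.exists_generator
  obtain ⟨i, rfl⟩ := hc a
  obtain ⟨j, rfl⟩ := hc b
  exact zpow_mul_comm c i j

theorem finite_hom [Finite G] (hcyc : IsCyclic ↥(W₁ ⊔ W₂)) : Finite (↥(W₁ ⊔ W₂) →* ℂˣ) := by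
  haveI : Fintype ↥(W₁ ⊔ W₂) := Fintype.ofFinite _
  exact Finite.of_equiv _
    (linearCharEquiv.trans (Equiv.subtypeUnivEquiv fun χ =>
      degree_eq_one_of_comm (sup_comm_of hcyc) χ.2)).symm

/-- The member of the family at a row and a column. -/
def eta (χ : (↥(W₁ ⊔ W₂) →* ℂˣ) → (G → ℂ)) (i : Row W₁ W₂) (j : Col W₁ W₂) : G → ℂ := χ (i.1 * j.1)

section Family

variable [Fintype G] {χ : (↥(W₁ ⊔ W₂) →* ℂˣ) → (G → ℂ)}

theorem eta_gen (hχ : IsCyclicTIFamily W₁ W₂ χ) (i : Row W₁ W₂) (j : Col W₁ W₂) :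
    IsGeneralizedCharacter G (eta χ i j) := by
  rcases hχ.irr_or_neg (i.1 * j.1) with h | h
  · exact h.isCharacter.isGeneralized
  · simpa [eta] using h.isCharacter.isGeneralized.neg

theorem eta_classFun (hχ : IsCyclicTIFamily W₁ W₂ χ) (i : Row W₁ W₂) (j : Col W₁ W₂) :
    IsClassFunction G (eta χ i j) := by
  rcases hχ.irr_or_neg (i.1 * j.1) with h | h
  · exact h.isClassFunction
  · intro a b
    have := h.isClassFunction a b
    simpa [eta] using this

theorem eta_pair_inj {i i' : Row W₁ W₂} {j j' : Col W₁ W₂} (h : i.1 * j.1 = i'.1 * j'.1) :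
    i = i' ∧ j = j' := by
  haveI : Fintype ↥(W₁ ⊔ W₂) := Fintype.ofFinite _
  obtain ⟨e1, e2⟩ := cti_pair_inj (G := G) (fun w hw => ⟨i.2 w hw, i'.2 w hw⟩)
    (fun w hw => ⟨j.2 w hw, j'.2 w hw⟩) h
  exact ⟨Subtype.ext e1, Subtype.ext e2⟩

open Classical in
theorem eta_orthonormal (hχ : IsCyclicTIFamily W₁ W₂ χ) (i i' : Row W₁ W₂) (j j' : Col W₁ W₂) :
    classInner (eta χ i j) (eta χ i' j') = if i = i' ∧ j = j' then 1 else 0 := by
  rw [eta, eta, hχ.orthonormal]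
  by_cases h : i = i' ∧ j = j'
  · obtain ⟨rfl, rfl⟩ := h
    simp
  · rw [if_neg h, if_neg fun e => h (eta_pair_inj e)]

theorem eta_zero (hχ : IsCyclicTIFamily W₁ W₂ χ) : eta χ (row0 W₁ W₂) (col0 W₁ W₂) = fun _ => 1 := by
  rw [eta]
  exact (congrArg χ (cti_one_mul _)).trans hχ.map_one

theorem eta_apply (hχ : IsCyclicTIFamily W₁ W₂ χ) (i : Row W₁ W₂) (j : Col W₁ W₂) (w : ↥(W₁ ⊔ W₂))
    (h₁ : (w : G) ∉ W₁) (h₂ : (w : G) ∉ W₂) : eta χ i j w = (i.1 w : ℂ) * (j.1 w : ℂ) := by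
  rw [eta, hχ.eq_on _ w h₁ h₂]
  simp

/-- The sum of a column. -/
noncomputable def colSum (χ : (↥(W₁ ⊔ W₂) →* ℂˣ) → (G → ℂ)) [Fintype (Row W₁ W₂)] (j : Col W₁ W₂) : G → ℂ :=
  ∑ i : Row W₁ W₂, eta χ i j

/-- Integral coefficients on the family. -/
theorem exists_coef (hχ : IsCyclicTIFamily W₁ W₂ χ) {F : G → ℂ} (hF : IsGeneralizedCharacter G F) :
    ∃ a : Row W₁ W₂ → Col W₁ W₂ → ℤ, ∀ i j, classInner F (eta χ i j) = a i j := by
  choose a ha using fun i j => hF.exists_int_classInner (eta_gen hχ i j)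
  exact ⟨a, ha⟩

theorem additive_coef (hW : IsSelfNormalizingCyclic W₁ W₂) (hχ : IsCyclicTIFamily W₁ W₂ χ) {F : G → ℂ}
    (hF : IsClassFunction G F) (hV : ∀ w : ↥(W₁ ⊔ W₂), (w : G) ∉ W₁ → (w : G) ∉ W₂ → F w = 0)
    {a : Row W₁ W₂ → Col W₁ W₂ → ℤ} (ha : ∀ i j, classInner F (eta χ i j) = a i j) : Additive a := by
  intro i i' j j'
  have h := Cfsg.Agent.S1506.result W₁ W₂ hW χ hχ F hF hV i.1 i'.1 j.1 j'.1
    (fun w hw => ⟨i.2 w hw, i'.2 w hw⟩) (fun w hw => ⟨j.2 w hw, j'.2 w hw⟩)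
  simp only [eta] at ha
  rw [ha, ha, ha, ha] at h
  exact_mod_cast h

/-- The Bessel inequality for the family joined with a further orthonormal family. -/
theorem coef_norm_le (hχ : IsCyclicTIFamily W₁ W₂ χ) [Fintype (Row W₁ W₂)] [Fintype (Col W₁ W₂)] {F : G → ℂ}
    {a : Row W₁ W₂ → Col W₁ W₂ → ℤ} (ha : ∀ i j, classInner F (eta χ i j) = a i j)
    {ι : Type u} [Fintype ι] [DecidableEq ι] (ψ : ι → G → ℂ) (c : ι → ℤ) (hc : ∀ k, classInner F (ψ k) = c k)
    (hon : ∀ k l, classInner (ψ k) (ψ l) = if k = l then 1 else 0)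
    (horth : ∀ k i j, classInner (ψ k) (eta χ i j) = 0) {N : ℤ} (hN : classInner F F = (N : ℂ)) :
    ∑ i, ∑ j, a i j ^ 2 + ∑ k, c k ^ 2 ≤ N := by
  classical
  have h := sum_norm_sq_le (X := G) (Finset.univ : Finset ((Row W₁ W₂ × Col W₁ W₂) ⊕ ι))
    (Sum.elim (fun x => eta χ x.1 x.2) ψ) (by
      rintro (⟨i, j⟩ | k) - (⟨i', j'⟩ | l) -
      · simp [eta_orthonormal hχ]
      · simp [classInner_symm_zero (horth l i j)]
      · simp [horth k i' j']
      · simp [hon]) F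
  simp only [Fintype.sum_sum_type, Sum.elim_inl, Sum.elim_inr, ha, hc, hN, Fintype.sum_prod_type,
    Complex.norm_intCast, sq_abs, Complex.intCast_re] at h
  exact_mod_cast h

/-- The Bessel inequality for the family alone. -/
theorem coef_norm_le' (hχ : IsCyclicTIFamily W₁ W₂ χ) [Fintype (Row W₁ W₂)] [Fintype (Col W₁ W₂)] {F : G → ℂ}
    {a : Row W₁ W₂ → Col W₁ W₂ → ℤ} (ha : ∀ i j, classInner F (eta χ i j) = a i j) {N : ℤ}
    (hN : classInner F F = (N : ℂ)) : ∑ i, ∑ j, a i j ^ 2 ≤ N := by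
  classical
  have := coef_norm_le hχ ha (ι := PEmpty) (fun k => k.elim) (fun k => k.elim) (fun k => k.elim)
    (fun k => k.elim) (fun k => k.elim) hN
  simpa using this

end Family

theorem card_row [Finite G] (hW : IsSelfNormalizingCyclic W₁ W₂) : Nat.card (Row W₁ W₂) = Nat.card W₁ :=
  cti_card_trivial_on_right hW.2.2.1 hW.2.2.2.1 (sup_comm_of hW.2.2.2.2.1)

theorem card_col [Finite G] (hW : IsSelfNormalizingCyclic W₁ W₂) : Nat.card (Col W₁ W₂) = Nat.card W₂ :=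
  cti_card_trivial_on_left hW.2.2.1 hW.2.2.2.1 (sup_comm_of hW.2.2.2.2.1)

theorem three_le_card_of_odd [Finite G] (hodd : Odd (Nat.card G)) {H : Subgroup G} (hne : H ≠ ⊥) :
    3 ≤ Nat.card H := by
  have h1 : 1 < Nat.card H :=
    Finite.one_lt_card_iff_nontrivial.mpr ((Subgroup.nontrivial_iff_ne_bot H).mpr hne)
  obtain ⟨c, hc⟩ := hodd.of_dvd_nat H.card_subgroup_dvd_card
  omega

/-- A class function vanishing on `V`, of norm at most two, is orthogonal to the family. -/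
theorem orth_of_norm_le_two [Fintype G] {χ : (↥(W₁ ⊔ W₂) →* ℂˣ) → (G → ℂ)} (hodd : Odd (Nat.card G))
    (hW : IsSelfNormalizingCyclic W₁ W₂) (hχ : IsCyclicTIFamily W₁ W₂ χ) {F : G → ℂ}
    (hF : IsGeneralizedCharacter G F) (hFc : IsClassFunction G F)
    (hV : ∀ w : ↥(W₁ ⊔ W₂), (w : G) ∉ W₁ → (w : G) ∉ W₂ → F w = 0) {N : ℤ} (hN : classInner F F = (N : ℂ))
    (hN2 : N ≤ 2) (i : Row W₁ W₂) (j : Col W₁ W₂) : classInner F (eta χ i j) = 0 := by
  haveI := finite_hom (G := G) hW.2.2.2.2.1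
  letI : Fintype (Row W₁ W₂) := Fintype.ofFinite _
  letI : Fintype (Col W₁ W₂) := Fintype.ofFinite _
  obtain ⟨a, ha⟩ := exists_coef hχ hF
  have h0 := eq_zero_of_sum_sq_le (additive_coef hW hχ hFc hV ha)
    (by rw [← Nat.card_eq_fintype_card, card_row hW]; exact three_le_card_of_odd hodd hW.1)
    (by rw [← Nat.card_eq_fintype_card, card_col hW]; exact three_le_card_of_odd hodd hW.2.1)
    ((coef_norm_le' hχ ha hN).trans hN2)
  rw [ha, h0]
  simp

/-- The constituents of such a difference are orthogonal to the family. -/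
theorem orth_constituent [Fintype G] {χ : (↥(W₁ ⊔ W₂) →* ℂˣ) → (G → ℂ)} (hodd : Odd (Nat.card G))
    (hW : IsSelfNormalizingCyclic W₁ W₂) (hχ : IsCyclicTIFamily W₁ W₂ χ) {φ ψ : G → ℂ}
    (hφ : IsGeneralizedCharacter G φ) (hψ : IsGeneralizedCharacter G ψ) (hφc : IsClassFunction G φ)
    (hψc : IsClassFunction G ψ) (hφ1 : classInner φ φ = 1) (hψ1 : classInner ψ ψ = 1)
    (hφψ : classInner φ ψ = 0) (hφirr : IsIrrCharacter G φ ∨ IsIrrCharacter G (-φ))
    (hV : ∀ w : ↥(W₁ ⊔ W₂), (w : G) ∉ W₁ → (w : G) ∉ W₂ → φ w = ψ w) (i : Row W₁ W₂) (j : Col W₁ W₂) :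
    classInner φ (eta χ i j) = 0 := by
  have hN : classInner (φ - ψ) (φ - ψ) = ((2 : ℤ) : ℂ) := by
    rw [classInner_sub_left, classInner_sub_right, classInner_sub_right, hφ1, hψ1, hφψ,
      classInner_symm_zero hφψ]
    norm_num
  have h0 := orth_of_norm_le_two hodd hW hχ (hφ.sub hψ) (fun a b => by simp [hφc a b, hψc a b])
    (fun w h1 h2 => by simp [hV w h1 h2]) hN le_rfl i j
  by_contra hne
  obtain ⟨s, hs⟩ : ∃ s : ℂ, φ = s • eta χ i j := by
    rcases hφirr with h | h <;> rcases hχ.irr_or_neg (i.1 * j.1) with h' | h'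
    · refine ⟨1, by_contra fun e => hne ?_⟩
      rw [one_smul] at e
      exact classInner_irr_ne h h' e
    · refine ⟨-1, by_contra fun e => hne ?_⟩
      rw [neg_one_smul] at e
      have := classInner_irr_ne h h' e
      rw [classInner_neg_right, neg_eq_zero] at this
      exact this
    · refine ⟨-1, by_contra fun e => hne ?_⟩
      rw [neg_one_smul] at e
      have := classInner_irr_ne h h' (fun e' => e (neg_eq_iff_eq_neg.1 e'))
      rw [classInner_neg_left, neg_eq_zero] at this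
      exact this
    · refine ⟨1, by_contra fun e => hne ?_⟩
      rw [one_smul] at e
      have := classInner_irr_ne h h' (fun e' => e (neg_injective e'))
      rw [classInner_neg_left, classInner_neg_right, neg_neg] at this
      exact this
  have hs0 : classInner φ (eta χ i j) = s := by
    rw [hs, classInner_smul_left, eta_orthonormal hχ, if_pos ⟨rfl, rfl⟩, mul_one]
  rw [classInner_sub_left, hs0] at h0
  rw [hs0] at hne
  rw [hs, classInner_smul_left] at hφψ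
  have hψe : classInner (eta χ i j) ψ = 0 := (mul_eq_zero.mp hφψ).resolve_left hne
  rw [classInner_symm_zero hψe, sub_zero] at h0
  exact hne h0

end Cfsg.Lib.Char.FT
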