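import Cfsg.Agent.Lib.Char.FT.Projection
import Cfsg.Agent.Lib.Char.CoherenceSibley
import Cfsg.Agent.Lib.Char.TIExceptional
import Cfsg.Agent.Lib.Char.Linear

/-!
# The projection of a coherent family of a Frobenius group on the kernel

`L` is a Frobenius group with kernel `K`, the Dade hypothesis holds for `A = K \ {1}`, and `τ₁` extends the Dade map to
the irreducible characters nontrivial on `K`.  If `[L : K] ([L : K] + 1) < |K| - 1` then the projection of `τ₁ χ` is
the restriction of `χ` to `A`, and `τ₁ χ` is orthogonal to the principal character.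
-/

set_option autoImplicit false
set_option linter.unusedSectionVars false
set_option linter.style.haveILetI false

namespace Cfsg.Lib.Char.FT

open Cfsg Cfsg.Lib.Char
open scoped ComplexConjugate

universe u

/-- A class function whose coefficients on the characters nontrivial on a Frobenius kernel `K` are proportional to
their degrees is constant on `K \ {1}`. -/
theorem exists_const_on_kernel {N : Type u} [Group N] [Fintype N] (K : Subgroup N) [K.Normal] {f : N → ℂ}
    (hf : IsClassFunction N f)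
    (hp : ∀ ξ ξ' : N → ℂ, ξ ∈ irrNontrivialOn K → ξ' ∈ irrNontrivialOn K →
      ξ 1 * classInner f ξ' = ξ' 1 * classInner f ξ) :
    ∃ c : ℂ, ∀ k ∈ K, k ≠ 1 → f k = c := by
  classical
  obtain ⟨t, ht⟩ : ∃ t : ℂ, ∀ ξ ∈ irrNontrivialOn K, classInner f ξ = t * ξ 1 := by
    by_cases h : (irrNontrivialOn K).Nonempty
    · obtain ⟨ξ₀, h0⟩ := h
      exact ⟨classInner f ξ₀ / ξ₀ 1, fun ξ hξ => by
        rw [div_mul_eq_mul_div, eq_div_iff h0.1.apply_one_ne_zero, mul_comm (classInner f ξ),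
          mul_comm (classInner f ξ₀)]
        exact hp ξ₀ ξ h0 hξ⟩
    · exact ⟨0, fun ξ hξ => absurd ⟨ξ, hξ⟩ h⟩
  refine ⟨(∑ η ∈ Finset.univ.filter (fun η : IrrCharacter N => ∀ k ∈ K, (η : N → ℂ) k = (η : N → ℂ) 1),
    classInner f η * (η : N → ℂ) 1) - t * (K.index : ℂ), fun k hk hk1 => ?_⟩
  have hexp := congrFun (eq_sum_classInner hf) k
  rw [Finset.sum_apply, ← Finset.sum_filter_add_sum_filter_not Finset.univ
    (fun η : IrrCharacter N => ∀ k ∈ K, (η : N → ℂ) k = (η : N → ℂ) 1)] at hexp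
  rw [hexp, sub_eq_add_neg]
  congr 1
  · exact Finset.sum_congr rfl fun η hη => by
      rw [Pi.smul_apply, smul_eq_mul, (Finset.mem_filter.mp hη).2 k hk]
  · refine (Finset.sum_congr rfl (g := fun η : IrrCharacter N =>
      t * ((η : N → ℂ) 1 * (η : N → ℂ) k)) fun η hη => ?_).trans ?_
    · have hn := (Finset.mem_filter.mp hη).2
      push Not at hn
      rw [Pi.smul_apply, smul_eq_mul, ht _ ⟨η.2, hn⟩, mul_assoc]
    · rw [← Finset.mul_sum, sum_nontrivialOn K hk, if_neg hk1, zero_sub, mul_neg]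

variable {G : Type u} [Group G]

/-- The hypotheses. -/
structure FrobData (A : Set G) (L : Subgroup G) (H : G → Subgroup G) (K : Subgroup L) : Prop where
  dade : DadeHypothesis A L H
  ne_bot : K ≠ ⊥
  ne_top : K ≠ ⊤
  free : ∀ h ∈ K, h ≠ 1 → Subgroup.centralizer ({h} : Set L) ≤ K
  mem_iff : ∀ x : L, (x : G) ∈ A ↔ x ∈ K ∧ x ≠ 1

/-- `τ₁` extends the Dade map to the integral combinations of the characters nontrivial on `K`. -/
def Extends [Fintype G] (A : Set G) (L : Subgroup G) [Fintype L] (H : G → Subgroup G) (K : Subgroup L)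
    (τ₁ : (L → ℂ) → (G → ℂ)) : Prop :=
  IsLinearIsometryOn (zspan (irrNontrivialOn K)) τ₁ ∧
    ∀ α ∈ zspanOn (irrNontrivialOn K) {1}ᶜ, τ₁ α = dadeIsometry A L H α

variable [Fintype G] {A : Set G} {L : Subgroup G} [Fintype L] {H : G → Subgroup G} {K : Subgroup L} [K.Normal]

theorem FrobData.props (d : FrobData A L H K) {α : L → ℂ} (hα : α ∈ zspan (irrNontrivialOn K)) :
    IsClassFunction L α ∧ (∀ x : L, x ∉ K → α x = 0) ∧ IsGeneralizedCharacter L α := by
  refine Submodule.span_induction (fun χ hχ => ?_) ?_ (fun a b _ _ ha hb => ?_) (fun z a _ ha => ?_) hα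
  · exact ⟨hχ.1.isClassFunction, (frobKernel_degree d.free hχ.1 hχ.2).2, hχ.1.isCharacter.isGeneralized⟩
  · exact ⟨fun x y => rfl, fun x _ => rfl, isGeneralizedCharacter_zero⟩
  · exact ⟨isClassFunction_add ha.1 hb.1, fun x hx => by simp [ha.2.1 x hx, hb.2.1 x hx], ha.2.2.add hb.2.2⟩
  · rw [← Int.cast_smul_eq_zsmul ℂ]
    exact ⟨fun x y => by simp [ha.1 x y], fun x hx => by simp [ha.2.1 x hx], ha.2.2.intCast_smul z⟩

theorem FrobData.support (d : FrobData A L H K) {α : L → ℂ} (hα : α ∈ zspanOn (irrNontrivialOn K) {1}ᶜ) :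
    ∀ x : L, (x : G) ∉ A → α x = 0 := fun x hx => by
  by_cases hx1 : x = 1
  · rw [hx1]; exact (mem_zspanOn_one.1 hα).2
  · exact (d.props hα.1).2.1 x fun h => hx ((d.mem_iff x).2 ⟨h, hx1⟩)

/-- Two characters nontrivial on `K`, weighted to cancel at `1`. -/
theorem FrobData.exists_diff (d : FrobData A L H K) {χ ξ : L → ℂ} (hχ : χ ∈ irrNontrivialOn K)
    (hξ : ξ ∈ irrNontrivialOn K) :
    ∃ m n : ℤ, χ 1 = m ∧ ξ 1 = n ∧ n ≠ 0 ∧
      (n : ℂ) • χ - (m : ℂ) • ξ ∈ zspanOn (irrNontrivialOn K) {1}ᶜ := by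
  obtain ⟨a, -, ha⟩ := hχ.1.exists_degree
  obtain ⟨b, hb0, hb⟩ := hξ.1.exists_degree
  refine ⟨a, b, by simpa using ha, by simpa using hb, by simpa using hb0.ne',
    mem_zspanOn_one.2 ⟨zspan_sub (zspan_intCast_smul (mem_zspan_self hχ) _)
      (zspan_intCast_smul (mem_zspan_self hξ) _), ?_⟩⟩
  simp [ha, hb, mul_comm]

variable {τ₁ : (L → ℂ) → (G → ℂ)}

theorem Extends.map_sub_smul (hτ : Extends A L H K τ₁) {χ ξ : L → ℂ} (hχ : χ ∈ irrNontrivialOn K)
    (hξ : ξ ∈ irrNontrivialOn K) (m n : ℤ) :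
    τ₁ ((n : ℂ) • χ - (m : ℂ) • ξ) = (n : ℂ) • τ₁ χ - (m : ℂ) • τ₁ ξ := by
  rw [sub_eq_add_neg, sub_eq_add_neg, ← neg_smul, ← neg_smul, ← Int.cast_neg,
    hτ.1.1 _ (zspan_intCast_smul (mem_zspan_self hχ) n) _ (zspan_intCast_smul (mem_zspan_self hξ) _),
    Int.cast_smul_eq_zsmul, Int.cast_smul_eq_zsmul, Int.cast_smul_eq_zsmul, Int.cast_smul_eq_zsmul,
    hτ.1.2.1 _ (mem_zspan_self hχ), hτ.1.2.1 _ (mem_zspan_self hξ)]

theorem Extends.inner (hτ : Extends A L H K τ₁) {χ ξ : L → ℂ} (hχ : χ ∈ irrNontrivialOn K)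
    (hξ : ξ ∈ irrNontrivialOn K) [Decidable (χ = ξ)] :
    classInner (τ₁ χ) (τ₁ ξ) = if χ = ξ then 1 else 0 := by
  rw [hτ.1.2.2.1 _ (mem_zspan_self hχ) _ (mem_zspan_self hξ), classInner_irr hχ.1 hξ.1]
  congr

theorem Extends.gen (hτ : Extends A L H K τ₁) {χ : L → ℂ} (hχ : χ ∈ irrNontrivialOn K) :
    IsGeneralizedCharacter G (τ₁ χ) := hτ.1.2.2.2 _ (mem_zspan_self hχ)

open Classical in
/-- The degree squares of the characters nontrivial on `K`. -/
theorem sum_sq_irrNontrivialOn :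
    ∑ χ ∈ (irrNontrivialOn_finite K).toFinset, χ 1 * χ 1 = (Nat.card L : ℂ) - (K.index : ℂ) := by
  have h := sum_nontrivialOn K K.one_mem
  rw [if_pos rfl] at h
  rw [← h]
  refine (Finset.sum_bij (fun (η : IrrCharacter L) _ => (η : L → ℂ)) (fun η hη => ?_)
    (fun a _ b _ e => Subtype.ext e) (fun χ hχ => ?_) (fun η _ => rfl)).symm
  · have hn := (Finset.mem_filter.mp hη).2
    push Not at hn
    exact (Set.Finite.mem_toFinset _).2 ⟨η.2, hn⟩
  · have hχ' := (Set.Finite.mem_toFinset _).1 hχ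
    obtain ⟨k, hk, hk'⟩ := hχ'.2
    exact ⟨⟨χ, hχ'.1⟩, Finset.mem_filter.2 ⟨Finset.mem_univ _, fun h => hk' (h k hk)⟩, rfl⟩

theorem sum_kernel_eq_card_mul (d : FrobData A L H K) {χ : L → ℂ} (hχ : χ ∈ irrNontrivialOn K) [DecidablePred (· ∈ K)] :
    classInner χ (fun x => if x ∈ K then (K.index : ℂ) else 0) = 0 := by
  have h0 : classInner χ (fun _ => 1) = 0 := classInner_irr_ne hχ.1 isIrrCharacter_one fun e => by
    obtain ⟨k, -, hk⟩ := hχ.2
    exact hk (by rw [e])
  refine Eq.trans ?_ (mul_eq_zero_of_right (K.index : ℂ) h0)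
  rw [classInner, classInner, mul_left_comm (K.index : ℂ), Finset.mul_sum (a := (K.index : ℂ))]
  refine congrArg (HMul.hMul _) (Finset.sum_congr rfl fun x _ => ?_)
  by_cases hx : x ∈ K
  · rw [if_pos hx, Complex.conj_natCast, map_one, mul_one, mul_comm]
  · rw [if_neg hx, (frobKernel_degree d.free hχ.1 hχ.2).2 x hx, zero_mul, zero_mul, mul_zero]

theorem inner_one_kernel [DecidablePred (· ∈ K)] :
    classInner (fun x : L => if x ∈ K then (K.index : ℂ) else 0) (fun _ => 1) = 1 ∧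
      classInner (fun x : L => if x ∈ K then (K.index : ℂ) else 0)
        (fun x => if x ∈ K then (K.index : ℂ) else 0) = K.index := by
  have hk : ((Finset.univ.filter (· ∈ K)).card : ℂ) = Nat.card K := by
    rw [Nat.card_eq_fintype_card, Fintype.card_subtype]
  have hL : (Nat.card L : ℂ) ≠ 0 := Nat.cast_ne_zero.2 Nat.card_pos.ne'
  have hm : (Nat.card K : ℂ) * K.index = Nat.card L := by exact_mod_cast K.card_mul_index
  constructor
  · simp only [classInner, map_one, mul_one]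
    rw [← Finset.sum_filter, Finset.sum_const, nsmul_eq_mul, hk, hm, inv_mul_cancel₀ hL]
  · simp only [classInner, apply_ite (starRingEnd ℂ), Complex.conj_natCast, map_zero, ite_mul, zero_mul, mul_ite,
      mul_zero]
    rw [Finset.sum_congr rfl (g := fun x : L => if x ∈ K then (K.index : ℂ) * K.index else 0)
      fun x _ => by by_cases hx : x ∈ K <;> simp [hx], ← Finset.sum_filter, Finset.sum_const, nsmul_eq_mul, hk,
      ← mul_assoc, ← mul_assoc, mul_assoc (Nat.card L : ℂ)⁻¹, hm, inv_mul_cancel₀ hL, one_mul]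

/-- `τ₁ χ` is orthogonal to the principal character. -/
theorem Extends.inner_one (d : FrobData A L H K) (hτ : Extends A L H K τ₁) (hbig : K.index + 1 < Nat.card K)
    {χ₀ : L → ℂ} (hχ₀ : χ₀ ∈ irrNontrivialOn K) (hd : χ₀ 1 = K.index)
    {χ : L → ℂ} (hχ : χ ∈ irrNontrivialOn K) : classInner (τ₁ χ) (fun _ => 1) = 0 := by
  classical
  have hdiff : ∀ ξ ∈ irrNontrivialOn K,
      ξ 1 * classInner (τ₁ χ₀) (fun _ => 1) = χ₀ 1 * classInner (τ₁ ξ) (fun _ => 1) := by
    intro ξ hξ
    obtain ⟨m, n, hm, hn, -, hα⟩ := d.exists_diff hχ₀ hξ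
    have h : classInner (τ₁ ((n : ℂ) • χ₀ - (m : ℂ) • ξ)) (fun _ => 1) = 0 := by
      rw [hτ.2 _ hα, classInner_dade_proj d.dade (d.props hα.1).1 (d.support hα) fun _ _ => rfl,
        show classInner ((n : ℂ) • χ₀ - (m : ℂ) • ξ) (dadeProj A L H fun _ => 1) =
          classInner ((n : ℂ) • χ₀ - (m : ℂ) • ξ) (fun _ => 1) from ?_, classInner_sub_left, classInner_smul_left,
        classInner_smul_left]
      · have h0 : ∀ ζ ∈ irrNontrivialOn K, classInner ζ (fun _ => 1) = 0 := fun ζ hζ => by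
          refine classInner_irr_ne hζ.1 isIrrCharacter_one fun e => ?_
          obtain ⟨k, -, hk⟩ := hζ.2
          exact hk (by rw [e])
        rw [h0 χ₀ hχ₀, h0 ξ hξ, mul_zero, mul_zero, sub_zero]
      · refine congrArg (_ * ·) (Finset.sum_congr rfl fun x _ => ?_)
        by_cases hx : (x : G) ∈ A
        · rw [dadeProj_one hx]
        · rw [d.support hα x hx, zero_mul, zero_mul]
    rw [hτ.map_sub_smul hχ₀ hξ, classInner_sub_left, classInner_smul_left, classInner_smul_left, sub_eq_zero] at h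
    rw [hn, hm]
    exact h
  have he : (K.index : ℂ) ≠ 0 := Nat.cast_ne_zero.2 Subgroup.index_ne_zero_of_finite
  suffices hz0 : classInner (τ₁ χ₀) (fun _ => 1) = 0 by
    have := hdiff χ hχ
    rw [hz0, mul_zero, hd] at this
    exact (mul_eq_zero.1 this.symm).resolve_left he
  set T := (irrNontrivialOn_finite K).toFinset with hT
  have hB := sum_norm_sq_le T τ₁ (fun a ha b hb => hτ.inner ((Set.Finite.mem_toFinset _).1 ha)
    ((Set.Finite.mem_toFinset _).1 hb)) (fun _ : G => 1)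
  rw [classInner_irr_self isIrrCharacter_one, Complex.one_re] at hB
  obtain ⟨z, hz⟩ := (hτ.gen hχ₀).exists_int_classInner isIrrCharacter_one.isCharacter.isGeneralized
  have hterm : ∀ ξ ∈ T, (((‖classInner (fun _ : G => (1 : ℂ)) (τ₁ ξ)‖ ^ 2 : ℝ)) : ℂ) * ((K.index : ℂ) * K.index) =
      (z : ℂ) * z * (ξ 1 * ξ 1) := by
    intro ξ hξ
    have hξ' := (Set.Finite.mem_toFinset _).1 hξ
    obtain ⟨w, hw⟩ := (hτ.gen hξ').exists_int_classInner isIrrCharacter_one.isCharacter.isGeneralized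
    have e := hdiff ξ hξ'
    rw [hz, hw, hd] at e
    rw [← classInner_conj_symm, hw, map_intCast, Complex.ofReal_pow, ← Complex.mul_conj', map_intCast]
    linear_combination (-((ξ 1) * z + (K.index : ℂ) * w)) * e
  have hsum : ((∑ ξ ∈ T, ‖classInner (fun _ : G => (1 : ℂ)) (τ₁ ξ)‖ ^ 2 : ℝ) : ℂ) * ((K.index : ℂ) * K.index) =
      (z : ℂ) * z * ((Nat.card L : ℂ) - K.index) := by
    rw [Complex.ofReal_sum, Finset.sum_mul, Finset.sum_congr rfl hterm, ← Finset.mul_sum, hT,
      sum_sq_irrNontrivialOn]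
  have key : (∑ ξ ∈ T, ‖classInner (fun _ : G => (1 : ℂ)) (τ₁ ξ)‖ ^ 2 : ℝ) * ((K.index : ℝ) * K.index) =
      (z : ℝ) * z * ((Nat.card K : ℝ) * K.index - K.index) := by
    rw [← K.card_mul_index] at hsum
    push_cast at hsum
    exact_mod_cast hsum
  rw [hz]
  by_contra hne
  have hz1 : (1 : ℝ) ≤ (z : ℝ) * z := by
    have : z ≠ 0 := fun e => hne (by rw [e, Int.cast_zero])
    have : 0 < z * z := mul_self_pos.2 this
    exact_mod_cast this
  have hb : (K.index : ℝ) + 1 < Nat.card K := by exact_mod_cast hbig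
  have he' : (0 : ℝ) < K.index := by exact_mod_cast Nat.pos_of_ne_zero Subgroup.index_ne_zero_of_finite
  nlinarith [mul_le_mul_of_nonneg_right hB (mul_pos he' he').le,
    mul_le_mul_of_nonneg_right hz1 (mul_nonneg he'.le (by linarith : (0 : ℝ) ≤ (Nat.card K : ℝ) - 1))]

/-- The projection of `τ₁ χ` is the restriction of `χ`. -/
theorem Extends.proj (d : FrobData A L H K) (hτ : Extends A L H K τ₁)
    (hbig : K.index * (K.index + 1) + 1 < Nat.card K) {χ₀ : L → ℂ} (hχ₀ : χ₀ ∈ irrNontrivialOn K)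
    (hd : χ₀ 1 = K.index) {χ : L → ℂ} (hχ : χ ∈ irrNontrivialOn K) {a : L} (ha : (a : G) ∈ A) :
    dadeProj A L H (τ₁ χ) a = χ a := by
  classical
  have hsmall : K.index + 1 < Nat.card K := by nlinarith
  have he : (K.index : ℂ) ≠ 0 := Nat.cast_ne_zero.2 Subgroup.index_ne_zero_of_finite
  set S := irrNontrivialOn K
  set P := fun ζ : L → ℂ => dadeProj A L H (τ₁ ζ)
  have hPc : ∀ ζ ∈ S, IsClassFunction L (P ζ) := fun ζ hζ =>
    isClassFunction_dadeProj d.dade (hτ.gen hζ).isClassFunction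
  -- the difference is constant
  have hconst : ∀ ζ ∈ S, ∃ c : ℂ, ∀ x : L, (x : G) ∈ A → P ζ x = ζ x + c := by
    intro ζ hζ
    set D : L → ℂ := fun x => if (x : G) ∈ A then P ζ x - ζ x else 0 with hD
    have hDc : IsClassFunction L D := fun x l => by
      have hiff : ((l * x * l⁻¹ : L) : G) ∈ A ↔ (x : G) ∈ A :=
        ⟨fun h => by
          have := d.dade.conj_mem (l : G)⁻¹ (inv_mem l.2) _ h
          simpa [mul_assoc] using this, fun h => d.dade.conj_mem l l.2 _ h⟩
      simp only [hD, hiff, hPc ζ hζ x l, hζ.1.isClassFunction x l]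
    obtain ⟨c, hc⟩ := exists_const_on_kernel K hDc fun ξ ξ' hξ hξ' => by
      obtain ⟨m, n, hm, hn, -, hα⟩ := d.exists_diff hξ hξ'
      have h0 : classInner D ((n : ℂ) • ξ - (m : ℂ) • ξ') = 0 := by
        have e : classInner D ((n : ℂ) • ξ - (m : ℂ) • ξ') =
            classInner (P ζ) ((n : ℂ) • ξ - (m : ℂ) • ξ') - classInner ζ ((n : ℂ) • ξ - (m : ℂ) • ξ') := by
          rw [← classInner_sub_left]
          refine congrArg (_ * ·) (Finset.sum_congr rfl fun x _ => ?_)
          by_cases hx : (x : G) ∈ A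
          · simp only [hD, if_pos hx, Pi.sub_apply]
          · rw [d.support hα x hx, map_zero, mul_zero, mul_zero]
        rw [e, ← classInner_proj_dade d.dade (d.props hα.1).1 (d.support hα) (hτ.gen hζ).isClassFunction,
          ← hτ.2 _ hα, hτ.1.2.2.1 _ (mem_zspan_self hζ) _ hα.1, sub_self]
      rw [classInner_sub_right, classInner_smul_right, classInner_smul_right, map_intCast, map_intCast,
        sub_eq_zero] at h0
      rw [hm, hn]
      exact h0.symm
    refine ⟨c, fun x hx => ?_⟩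
    have := hc x ((d.mem_iff x).1 hx).1 ((d.mem_iff x).1 hx).2
    rw [hD] at this
    simp only [if_pos hx] at this
    linear_combination this
  choose! c hc using hconst
  have hlin : ∀ ζ ∈ S, c ζ * (K.index : ℂ) = c χ₀ * ζ 1 := by
    intro ζ hζ
    obtain ⟨m, n, hm, hn, -, hα⟩ := d.exists_diff hζ hχ₀
    have h := dadeProj_dadeIsometry d.dade (d.props hα.1).1 ha
    rw [← hτ.2 _ hα, hτ.map_sub_smul hζ hχ₀, dadeProj_sub, dadeProj_smul, dadeProj_smul] at h
    simp only [Pi.sub_apply, Pi.smul_apply, smul_eq_mul] at h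
    have h1 := hc ζ hζ a ha
    have h2 := hc χ₀ hχ₀ a ha
    simp only [P] at h1 h2
    rw [h1, h2] at h
    rw [← hd, hm, hn]
    linear_combination h
  -- the test function
  set I : L → ℂ := fun x => if x ∈ K then (K.index : ℂ) else 0 with hI
  set α₀ : L → ℂ := I - χ₀ with hα₀
  have hIgen : IsGeneralizedCharacter L I := by
    haveI := Fintype.ofFinite K
    have : I = indFun K (fun _ => (1 : ℂ)) := funext fun x => by
      by_cases hx : x ∈ K
      · rw [hI]
        simp only [if_pos hx]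
        rw [show x = ((⟨x, hx⟩ : K) : L) from rfl, indFun_normal_apply, Finset.sum_const, Finset.card_univ,
          nsmul_eq_mul, mul_one, ← Nat.card_eq_fintype_card, ← K.card_mul_index, Nat.cast_mul,
          inv_mul_cancel_left₀ (Nat.cast_ne_zero.2 Nat.card_pos.ne')]
      · rw [hI, indFun_normal_of_notMem K _ hx]
        simp only [if_neg hx]
    rw [this]
    exact (isCharacter_indFun (H := K) isCharacter_one).isGeneralized
  have hgen₀ : IsGeneralizedCharacter L α₀ := hIgen.sub hχ₀.1.isCharacter.isGeneralized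
  have hsupp₀ : ∀ x : L, (x : G) ∉ A → α₀ x = 0 := fun x hx => by
    by_cases hxK : x ∈ K
    · have hx1 : x = 1 := by_contra fun h => hx ((d.mem_iff x).2 ⟨hxK, h⟩)
      simp [hα₀, hI, hx1, hd]
    · simp [hα₀, hI, hxK, (frobKernel_degree d.free hχ₀.1 hχ₀.2).2 x hxK]
  set β := dadeIsometry A L H α₀
  have hβgen : IsGeneralizedCharacter G β := isGeneralizedCharacter_dadeIsometry d.dade hgen₀ hsupp₀
  have hI1 := (inner_one_kernel (K := K))
  have hχ1 : classInner χ₀ (fun _ => 1) = 0 := by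
    refine classInner_irr_ne hχ₀.1 isIrrCharacter_one fun e => ?_
    obtain ⟨k, -, hk⟩ := hχ₀.2
    exact hk (by rw [e])
  have hα1 : classInner α₀ (fun _ => 1) = 1 := by rw [hα₀, classInner_sub_left, hI1.1, hχ1, sub_zero]
  have hχI : ∀ ζ ∈ S, classInner ζ I = 0 := fun ζ hζ => sum_kernel_eq_card_mul d hζ
  have hcval : ∀ ζ ∈ S, classInner (τ₁ ζ) β = c ζ - if ζ = χ₀ then 1 else 0 := by
    intro ζ hζ
    rw [classInner_proj_dade d.dade hgen₀.isClassFunction hsupp₀ (hτ.gen hζ).isClassFunction]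
    have e : classInner (P ζ) α₀ = classInner (ζ + c ζ • fun _ => 1) α₀ := by
      refine congrArg (_ * ·) (Finset.sum_congr rfl fun x _ => ?_)
      by_cases hx : (x : G) ∈ A
      · rw [hc ζ hζ x hx]; simp
      · rw [hsupp₀ x hx, map_zero, mul_zero, mul_zero]
    rw [e, classInner_add_left, classInner_smul_left, ← classInner_conj_symm α₀ (fun _ => 1), hα1, map_one, mul_one,
      hα₀, classInner_sub_right, hχI ζ hζ, classInner_irr hζ.1 hχ₀.1]
    ring
  -- the Bessel inequality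
  set v : G → ℂ := β - fun _ => 1
  have hv : classInner v v = (K.index : ℂ) := by
    have h1 : classInner β (fun _ => 1) = 1 := by
      rw [classInner_dade_proj d.dade hgen₀.isClassFunction hsupp₀ fun _ _ => rfl]
      refine Eq.trans ?_ hα1
      refine congrArg (_ * ·) (Finset.sum_congr rfl fun x _ => ?_)
      by_cases hx : (x : G) ∈ A
      · rw [dadeProj_one hx]
      · rw [hsupp₀ x hx, zero_mul, zero_mul]
    have h2 : classInner β β = (K.index : ℂ) + 1 := by
      rw [classInner_dadeIsometry_dadeIsometry d.dade hgen₀.isClassFunction hsupp₀ hgen₀.isClassFunction, hα₀,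
        classInner_sub_left, classInner_sub_right, classInner_sub_right, hI1.2, classInner_irr_self hχ₀.1,
        hχI χ₀ hχ₀, ← classInner_conj_symm χ₀ I, hχI χ₀ hχ₀, map_zero]
      ring
    rw [classInner_sub_left, classInner_sub_right, classInner_sub_right, h2, h1,
      classInner_irr_self isIrrCharacter_one, ← classInner_conj_symm β, h1, map_one]
    ring
  obtain ⟨z, hz⟩ := (hτ.gen hχ₀).exists_int_classInner hβgen
  set m : ℤ := z + 1
  have hm : c χ₀ = (m : ℂ) := by
    have := hcval χ₀ hχ₀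
    rw [if_pos rfl, hz] at this
    simp only [m]
    push_cast
    linear_combination (-1 : ℂ) * this
  set T := (irrNontrivialOn_finite K).toFinset with hT
  have hB := sum_norm_sq_le T τ₁ (fun a ha b hb => hτ.inner ((Set.Finite.mem_toFinset _).1 ha)
    ((Set.Finite.mem_toFinset _).1 hb)) v
  rw [hv, Complex.natCast_re] at hB
  have hterm : ∀ ζ ∈ T, (((‖classInner v (τ₁ ζ)‖ ^ 2 : ℝ)) : ℂ) * ((K.index : ℂ) * K.index) =
      (m : ℂ) * m * (ζ 1 * ζ 1) + if ζ = χ₀ then (K.index : ℂ) * K.index * (1 - 2 * m) else 0 := by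
    intro ζ hζ
    have hζ' := (Set.Finite.mem_toFinset _).1 hζ
    obtain ⟨w, hw⟩ := (hτ.gen hζ').exists_int_classInner hβgen
    have h1 : classInner v (τ₁ ζ) = (w : ℂ) := by
      rw [← classInner_conj_symm, show classInner (τ₁ ζ) v = (w : ℂ) from ?_, map_intCast]
      rw [classInner_sub_right, hw, hτ.inner_one d hsmall hχ₀ hd hζ', sub_zero]
    rw [h1, Complex.ofReal_pow, ← Complex.mul_conj', map_intCast]
    have h2 := hcval ζ hζ'
    rw [hw] at h2
    have h3 := hlin ζ hζ'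
    rw [hm] at h3
    split_ifs with hζ0
    · rw [if_pos hζ0] at h2
      rw [hζ0] at h3 h2 ⊢
      rw [hd] at h3 ⊢
      rw [mul_right_cancel₀ he h3] at h2
      rw [h2]; ring
    · rw [if_neg hζ0, sub_zero] at h2
      rw [← h2] at h3
      linear_combination ((w : ℂ) * K.index + m * ζ 1) * h3
  have hsum : ((∑ ζ ∈ T, ‖classInner v (τ₁ ζ)‖ ^ 2 : ℝ) : ℂ) * ((K.index : ℂ) * K.index) =
      (m : ℂ) * m * ((Nat.card L : ℂ) - K.index) + (K.index : ℂ) * K.index * (1 - 2 * m) := by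
    rw [Complex.ofReal_sum, Finset.sum_mul, Finset.sum_congr rfl hterm, Finset.sum_add_distrib, ← Finset.mul_sum,
      hT, sum_sq_irrNontrivialOn, Finset.sum_ite_eq', if_pos ((Set.Finite.mem_toFinset _).2 hχ₀)]
  have key : (∑ ζ ∈ T, ‖classInner v (τ₁ ζ)‖ ^ 2 : ℝ) * ((K.index : ℝ) * K.index) =
      (m : ℝ) * m * ((Nat.card K : ℝ) * K.index - K.index) + (K.index : ℝ) * K.index * (1 - 2 * m) := by
    rw [← K.card_mul_index] at hsum
    push_cast at hsum
    exact_mod_cast hsum
  have hm0 : m = 0 := by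
    by_contra hne
    have hm1 : (1 : ℝ) ≤ |(m : ℝ)| := by exact_mod_cast Int.one_le_abs hne
    have hb : (K.index : ℝ) * (K.index + 1) + 1 < Nat.card K := by exact_mod_cast hbig
    have he' : (1 : ℝ) ≤ K.index := by exact_mod_cast Nat.pos_of_ne_zero Subgroup.index_ne_zero_of_finite
    have hle : (m : ℝ) * m * ((Nat.card K : ℝ) - 1) + (K.index : ℝ) * (1 - 2 * m) ≤ (K.index : ℝ) * K.index := by
      refine le_of_mul_le_mul_right ?_ (lt_of_lt_of_le one_pos he')
      nlinarith [mul_le_mul_of_nonneg_right hB (mul_self_nonneg (K.index : ℝ))]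
    have habs := le_abs_self (m : ℝ)
    have hsq := sq_abs (m : ℝ)
    have hk2 : (0 : ℝ) ≤ (Nat.card K : ℝ) - 1 - 2 * K.index := by nlinarith [mul_le_mul_of_nonneg_left he' (zero_le_one.trans he')]
    have hk1 : (0 : ℝ) ≤ (Nat.card K : ℝ) - 1 := by linarith
    nlinarith [mul_nonneg (sub_nonneg.2 hm1) hk2, mul_nonneg (mul_nonneg (abs_nonneg (m : ℝ)) (sub_nonneg.2 hm1)) hk1,
      mul_le_mul_of_nonneg_left habs (zero_le_one.trans he')]
  have hcχ : c χ = 0 := by
    have := hlin χ hχ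
    rw [hm, hm0, Int.cast_zero, zero_mul] at this
    exact (mul_eq_zero.1 this).resolve_right he
  have := hc χ hχ a ha
  simp only [P] at this
  rw [this, hcχ, add_zero]

end Cfsg.Lib.Char.FT
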