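import Cfsg.Agent.S1523

/-!
The congruence of Peterfalvi (10.8): a character that is constant on a central subgroup `Z` of a TI Hall
subgroup `P` has `ψ 1 ≡ ψ z` modulo the order of `P`.
-/

set_option autoImplicit false
set_option linter.style.haveILetI false

namespace Cfsg.Lib.Char.FT

open Cfsg Cfsg.Lib.Char

universe u

variable {G : Type u} [Group G] [Finite G]

theorem degree_congr (P : Subgroup G) (hTI : Cfsg.IsTISubset (P : Set G))
    (hodd : Odd (Nat.card (Subgroup.normalizer (P : Set G))))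
    (hHall : (Nat.card P).Coprime (P.relIndex (Subgroup.normalizer (P : Set G))))
    (Z : Subgroup G) (hZ1 : Z ≠ ⊥) (hZP : Z ≤ P)
    (hZn : ∀ x ∈ Subgroup.normalizer (P : Set G), ∀ z ∈ Z, x * z * x⁻¹ ∈ Z)
    (hZc : ∀ z ∈ Z, ∀ y ∈ P, z * y = y * z) {ψ : G → ℂ} (hψ : Cfsg.IsIrrCharacter G ψ)
    (hconst : ∀ z ∈ Z, ∀ z' ∈ Z, z ≠ 1 → z' ≠ 1 → ψ z = ψ z') {z : G} (hz : z ∈ Z) (hz1 : z ≠ 1) :
    ∃ n d : ℤ, ψ z = n ∧ ψ 1 = d ∧ (Nat.card P : ℤ) ∣ d - n := by
  classical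
  haveI := Fintype.ofFinite G
  haveI := Fintype.ofFinite Z
  set L := Subgroup.normalizer (P : Set G) with hLdef
  obtain ⟨d, hd0, hd⟩ := hψ.exists_degree
  -- the value on `Z` is an integer
  obtain ⟨r, hr⟩ := (hψ.isCharacter.comp Z.subtype).exists_nat_classInner
    isIrrCharacter_one.isCharacter
  have hZ2 : 2 ≤ Nat.card Z := (Subgroup.one_lt_card_iff_ne_bot Z).mpr hZ1
  have hψz : ψ z * ((Nat.card Z : ℂ) - 1) = (Nat.card Z : ℂ) * r - d := by
    rw [classInner_one_right, inv_mul_eq_iff_eq_mul₀ card_cast_ne_zero] at hr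
    have h1 : ∀ x : Z, ψ x = ψ z + if x = 1 then (d : ℂ) - ψ z else 0 := by
      intro x
      by_cases hx : x = 1
      · subst hx; rw [if_pos rfl, OneMemClass.coe_one, hd]; ring
      · rw [if_neg hx, add_zero]
        exact hconst x x.2 z hz (fun e => hx (Subtype.ext e)) hz1
    simp only [Subgroup.subtype_apply] at hr
    rw [Finset.sum_congr rfl (g := fun x : Z => ψ z + if x = 1 then (d : ℂ) - ψ z else 0)
      (fun x _ => h1 x), Finset.sum_add_distrib, Finset.sum_const, Finset.card_univ, nsmul_eq_mul,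
      Finset.sum_ite_eq', if_pos (Finset.mem_univ _), ← Nat.card_eq_fintype_card] at hr
    linear_combination hr
  obtain ⟨n, hn⟩ : ∃ n : ℤ, ψ z = n := by
    have hint := hψ.isCharacter.isIntegral z
    have hne : ((Nat.card Z : ℂ) - 1) ≠ 0 := sub_ne_zero.mpr (by exact_mod_cast (show Nat.card Z ≠ 1 by omega))
    have hq : ψ z = ((((Nat.card Z : ℚ) * r - d) / ((Nat.card Z : ℚ) - 1) : ℚ) : ℂ) := by
      push_cast
      rw [eq_div_iff hne, hψz]
    rw [hq] at hint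
    obtain ⟨n, hn⟩ := exists_int_of_isIntegral_rat hint
    exact ⟨n, by rw [hq, hn]; simp⟩
  refine ⟨n, d, hn, by rw [hd]; simp, ?_⟩
  have hval : ∀ w ∈ Z, w ≠ 1 → ψ w = n := fun w hw hw1 => (hconst w hw z hz hw1 hz1).trans hn
  -- fusion facts
  have hTI' : ∀ g : G, ∀ x ∈ P, x ≠ 1 → g * x * g⁻¹ ∈ P → g ∈ L := by
    intro g x hx hx1 h
    by_contra hg
    exact hx1 (hTI g hg x hx h)
  have hzinv : ∀ g : G, g * z * g⁻¹ ≠ z⁻¹ := by
    intro g h
    have hgL : g ∈ L := hTI' g z (hZP hz) hz1 (by rw [h]; exact P.inv_mem (hZP hz))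
    have h2 : Commute (g ^ 2) z := by
      show g ^ 2 * z = z * g ^ 2
      calc g ^ 2 * z = g * (g * z * g⁻¹) * g⁻¹ * g ^ 2 := by rw [pow_two]; group
        _ = g * z⁻¹ * g⁻¹ * g ^ 2 := by rw [h]
        _ = (g * z * g⁻¹)⁻¹ * g ^ 2 := by group
        _ = z * g ^ 2 := by rw [h, inv_inv]
    obtain ⟨k, hk⟩ := hodd
    have hgk : (g ^ 2) ^ (k + 1) = g := by
      have h3 : g ^ Nat.card L = 1 := congrArg Subtype.val (pow_card_eq_one' (x := (⟨g, hgL⟩ : L)))
      rw [← pow_mul, show 2 * (k + 1) = Nat.card L + 1 by omega, pow_succ, h3, one_mul]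
    have h4 : Commute g z := hgk ▸ h2.pow_left (k + 1)
    rw [h4.eq, mul_inv_cancel_right] at h
    have h5 : z ^ 2 = 1 := by rw [pow_two]; nth_rewrite 1 [h]; exact inv_mul_cancel z
    have h6 : orderOf z ∣ Nat.card L :=
      Subgroup.orderOf_dvd_natCard L (Subgroup.le_normalizer (hZP hz))
    have h7 : orderOf z ∣ 2 := orderOf_dvd_of_pow_eq_one h5
    rcases (Nat.dvd_prime Nat.prime_two).mp h7 with h8 | h8
    · exact hz1 (orderOf_eq_one_iff.mp h8)
    · rw [h8] at h6; omega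
  have hcent : ∀ w ∈ Z, w ≠ 1 → ∀ g y : G, y ∈ P → y ≠ 1 →
      y * (g * w * g⁻¹) * y⁻¹ = g * w * g⁻¹ → g * w * g⁻¹ ∈ Z := by
    intro w hw hw1 g y hy hy1 h
    have hu : g⁻¹ * y * g * w * (g⁻¹ * y * g)⁻¹ = w := by
      calc g⁻¹ * y * g * w * (g⁻¹ * y * g)⁻¹ = g⁻¹ * (y * (g * w * g⁻¹) * y⁻¹) * g := by group
        _ = w := by rw [h]; group
    have huL : g⁻¹ * y * g ∈ L := hTI' _ w (hZP hw) hw1 (by rw [hu]; exact hZP hw)
    have huP : g⁻¹ * y * g ∈ P := by
      haveI : (P.subgroupOf L).Normal := Subgroup.normal_in_normalizer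
      set v : L ⧸ P.subgroupOf L := QuotientGroup.mk' _ ⟨g⁻¹ * y * g, huL⟩ with hv
      have h1 : orderOf v ∣ Nat.card P := by
        refine (orderOf_map_dvd _ _).trans ?_
        rw [Subgroup.orderOf_mk, show g⁻¹ * y * g = MulAut.conj g⁻¹ y by simp, MulEquiv.orderOf_eq]
        exact Subgroup.orderOf_dvd_natCard P hy
      have h2 : orderOf v ∣ P.relIndex L := orderOf_dvd_natCard v
      have h3 : v = 1 := orderOf_eq_one_iff.mp (Nat.eq_one_of_dvd_coprimes hHall h1 h2)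
      exact Subgroup.mem_subgroupOf.mp ((QuotientGroup.eq_one_iff _).mp h3)
    have hgL : g ∈ L := hTI' g _ huP (fun e => hy1 (by
      rw [show y = g * (g⁻¹ * y * g) * g⁻¹ by group, e]; group)) (by
      rw [show g * (g⁻¹ * y * g) * g⁻¹ = y by group]; exact hy)
    exact hZn g hgL w hw
  have hconjZ : ∀ y ∈ P, ∀ w : G, w ∈ Z ↔ y * w * y⁻¹ ∈ Z := fun y hy w =>
    ⟨fun hw => hZn y (Subgroup.le_normalizer hy) w hw, fun hw => by
      simpa [mul_assoc] using hZn y⁻¹ (Subgroup.le_normalizer (P.inv_mem hy)) _ hw⟩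
  have hcls : ∀ w y : G, ∀ a ∈ classFinset w, y * a * y⁻¹ ∈ classFinset w := fun w y a ha =>
    mem_classFinset.mpr ((mem_classFinset.mp ha).trans (isConj_iff.mpr ⟨y, rfl⟩))
  have hzi : z⁻¹ ∈ Z := Z.inv_mem hz
  have hzi1 : z⁻¹ ≠ 1 := fun h => hz1 (inv_eq_one.mp h)
  -- the main congruence
  have key : ∀ w ∈ Z, w ≠ 1 → ∃ W : ℂ, IsIntegral ℤ W ∧
      ((classFinset z).card : ℂ) * (classFinset w).card * ψ z * ψ w / d =
        ∑ q ∈ (classFinset z ×ˢ classFinset w).filter (fun q => q.1 ∈ Z ∧ q.2 ∈ Z), ψ (q.1 * q.2) +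
          (Nat.card P : ℂ) * W := by
    intro w hw hw1
    obtain ⟨W, hW, hWe⟩ := Cfsg.Agent.S1523.free_sum P (fun q : G × G => ψ (q.1 * q.2))
      (fun q => hψ.isCharacter.isIntegral _)
      (fun y _ q => by
        show ψ (y * q.1 * y⁻¹ * (y * q.2 * y⁻¹)) = ψ (q.1 * q.2)
        rw [show y * q.1 * y⁻¹ * (y * q.2 * y⁻¹) = y * (q.1 * q.2) * y⁻¹ by group, hψ.isClassFunction])
      _ ((classFinset z ×ˢ classFinset w).filter fun q => ¬ (q.1 ∈ Z ∧ q.2 ∈ Z)) rfl
      (fun y hy q hq => by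
        simp only [Finset.mem_filter, Finset.mem_product] at hq ⊢
        exact ⟨⟨hcls _ _ _ hq.1.1, hcls _ _ _ hq.1.2⟩, fun h =>
          hq.2 ⟨(hconjZ y hy _).mpr h.1, (hconjZ y hy _).mpr h.2⟩⟩)
      (fun y hy q hq h => by
        simp only [Finset.mem_filter, Finset.mem_product] at hq
        by_contra hy1
        obtain ⟨g, hg⟩ := isConj_iff.mp (mem_classFinset.mp hq.1.1)
        obtain ⟨g', hg'⟩ := isConj_iff.mp (mem_classFinset.mp hq.1.2)
        refine hq.2 ⟨?_, ?_⟩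
        · rw [← hg]; exact hcent z hz hz1 g y hy hy1 (by rw [hg]; exact congrArg Prod.fst h)
        · rw [← hg']; exact hcent w hw hw1 g' y hy hy1 (by rw [hg']; exact congrArg Prod.snd h))
    refine ⟨W, hW, ?_⟩
    rw [← hWe, Finset.sum_filter_add_sum_filter_not, Finset.sum_product]
    have h1 : ∀ g : G, ∑ y ∈ classFinset w, ψ (g * y) = ((classFinset w).card : ℂ) * ψ g * ψ w / d := by
      intro g
      apply mul_left_cancel₀ (card_cast_ne_zero (G := G))
      have h2 : ∑ y ∈ classFinset w, ∑ x : G, ψ (g * (x * y * x⁻¹)) =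
          ∑ x : G, ∑ y ∈ classFinset w, ψ (g * y) := by
        rw [Finset.sum_comm]
        refine Finset.sum_congr rfl fun x _ => ?_
        exact Finset.sum_equiv (MulAut.conj x).toEquiv
          (fun y => ⟨fun h => hcls w x y h, fun h => by
            simpa [mul_assoc] using hcls w x⁻¹ _ h⟩) (fun y _ => rfl)
      rw [Finset.sum_congr rfl (g := fun _ => (Nat.card G : ℂ) * ψ g * ψ w / d) (fun y hy => by
          obtain ⟨c, hc⟩ := isConj_iff.mp (mem_classFinset.mp hy)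
          rw [sum_char_mul_conj hψ, hd, ← hc, hψ.isClassFunction]),
        Finset.sum_const, nsmul_eq_mul, Finset.sum_const, Finset.card_univ, nsmul_eq_mul,
        ← Nat.card_eq_fintype_card] at h2
      rw [← h2]; ring
    rw [Finset.sum_congr rfl fun g _ => h1 g, ← Finset.sum_div, ← Finset.sum_mul, ← Finset.mul_sum,
      sum_classFinset hψ.isClassFunction]
    ring
  set c := ((classFinset z).filter fun a => a ∈ Z).card with hcdef
  -- both classes have the same size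
  have hinvc : ∀ a : G, a ∈ classFinset z⁻¹ ↔ a⁻¹ ∈ classFinset z := by
    intro a
    simp only [mem_classFinset, isConj_iff]
    constructor
    · rintro ⟨g, hg⟩; exact ⟨g, by rw [← hg]; group⟩
    · rintro ⟨g, hg⟩; exact ⟨g, by rw [show a = (g * z * g⁻¹)⁻¹ by rw [hg, inv_inv]]; group⟩
  have hcard' : (classFinset z⁻¹).card = (classFinset z).card :=
    Finset.card_equiv (Equiv.inv G) fun a => hinvc a
  have hprod : ∀ s t : Finset G, (s ×ˢ t).filter (fun q => q.1 ∈ Z ∧ q.2 ∈ Z) =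
      (s.filter (· ∈ Z)) ×ˢ (t.filter (· ∈ Z)) := fun s t =>
    (Finset.filter_product (· ∈ Z) (· ∈ Z))
  have hne1 : ∀ a ∈ classFinset z, a ≠ 1 := fun a ha e => by
    obtain ⟨g, hg⟩ := isConj_iff.mp (mem_classFinset.mp ha)
    rw [e] at hg
    exact hz1 (by simpa [mul_inv_eq_one] using hg)
  obtain ⟨W₁, hW₁, e₁⟩ := key z hz hz1
  obtain ⟨W₂, hW₂, e₂⟩ := key z⁻¹ hzi hzi1
  rw [hprod, Finset.sum_product, Finset.sum_congr rfl (g := fun _ => ∑ _b ∈ (classFinset z).filter (· ∈ Z), (n : ℂ))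
    (fun a ha => Finset.sum_congr rfl fun b hb => by
      obtain ⟨ha, haZ⟩ := Finset.mem_filter.mp ha
      obtain ⟨hb, hbZ⟩ := Finset.mem_filter.mp hb
      refine hval _ (Z.mul_mem haZ hbZ) fun e => ?_
      obtain ⟨g, hg⟩ := isConj_iff.mp (mem_classFinset.mp ha)
      obtain ⟨g', hg'⟩ := isConj_iff.mp (mem_classFinset.mp hb)
      refine hzinv (g⁻¹ * g') ?_
      have e' : g' * z * g'⁻¹ = (g * z * g⁻¹)⁻¹ := by rw [hg, hg']; exact eq_inv_of_mul_eq_one_right e
      calc g⁻¹ * g' * z * (g⁻¹ * g')⁻¹ = g⁻¹ * (g' * z * g'⁻¹) * g := by group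
        _ = z⁻¹ := by rw [e']; group)] at e₁
  rw [hprod, Finset.sum_product, Finset.sum_congr rfl (g := fun _ => (d : ℂ) - n +
      ∑ _b ∈ (classFinset z⁻¹).filter (· ∈ Z), (n : ℂ))
    (fun a ha => by
      obtain ⟨ha, haZ⟩ := Finset.mem_filter.mp ha
      rw [Finset.sum_congr rfl (g := fun b => (n : ℂ) + if b = a⁻¹ then (d : ℂ) - n else 0) fun b hb => by
          obtain ⟨hb, hbZ⟩ := Finset.mem_filter.mp hb
          by_cases hba : b = a⁻¹
          · rw [if_pos hba, hba, mul_inv_cancel, hd]; ring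
          · rw [if_neg hba, add_zero]
            exact hval _ (Z.mul_mem haZ hbZ) fun e => hba (eq_inv_of_mul_eq_one_right e),
        Finset.sum_add_distrib, Finset.sum_ite_eq',
        if_pos (Finset.mem_filter.mpr ⟨(hinvc _).mpr (by rw [inv_inv]; exact ha), Z.inv_mem haZ⟩)]
      ring)] at e₂
  have hc' : ((classFinset z⁻¹).filter fun a => a ∈ Z).card = c :=
    Finset.card_equiv (Equiv.inv G) fun a => by
      simp only [Finset.mem_filter, Equiv.inv_apply, hinvc a, Z.inv_mem_iff]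
  rw [hval z⁻¹ hzi hzi1, hcard', hn] at e₂
  rw [hn] at e₁
  simp only [Finset.sum_const, nsmul_eq_mul, hc', ← hcdef] at e₁ e₂
  have heq : (c : ℂ) * ((d : ℂ) - n) = (Nat.card P : ℂ) * (W₁ - W₂) := by
    linear_combination e₁ - e₂
  have hdvd : (Nat.card P : ℤ) ∣ (c : ℤ) * ((d : ℤ) - n) := by
    have hP0 : (Nat.card P : ℂ) ≠ 0 := card_cast_ne_zero
    have hq : W₁ - W₂ = (((((c : ℚ) * ((d : ℚ) - n)) / (Nat.card P : ℚ)) : ℚ) : ℂ) := by
      push_cast
      rw [eq_div_iff hP0, heq]; ring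
    obtain ⟨m, hm⟩ := exists_int_of_isIntegral_rat (hq ▸ hW₁.sub hW₂)
    rw [div_eq_iff (Nat.cast_ne_zero.mpr Nat.card_pos.ne')] at hm
    refine ⟨m, ?_⟩
    have h : (((c : ℤ) * ((d : ℤ) - n) : ℤ) : ℚ) = (((Nat.card P : ℤ) * m : ℤ) : ℚ) := by
      push_cast; rw [hm]; ring
    exact_mod_cast h
  have hcop : Nat.Coprime (Nat.card P) c := by
    have hzL : z ∈ L := Subgroup.le_normalizer (hZP hz)
    haveI := Fintype.ofFinite L
    have hc2 : c = (classFinset (⟨z, hzL⟩ : L)).card := by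
      rw [hcdef]
      refine (Finset.card_bij (fun (a : L) _ => (a : G)) (fun a ha => ?_) (fun _ _ _ _ e => Subtype.coe_injective e) ?_).symm
      · obtain ⟨l, hl⟩ := isConj_iff.mp (mem_classFinset.mp ha)
        refine Finset.mem_filter.mpr ⟨mem_classFinset.mpr (isConj_iff.mpr ⟨(l : G), congrArg Subtype.val hl⟩), ?_⟩
        rw [← hl]
        exact hZn l l.2 z hz
      · intro a ha
        obtain ⟨ha1, haZ⟩ := Finset.mem_filter.mp ha
        obtain ⟨g, hg⟩ := isConj_iff.mp (mem_classFinset.mp ha1)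
        have hgL : g ∈ L := hTI' g z (hZP hz) hz1 (hg ▸ hZP haZ)
        exact ⟨⟨a, hg ▸ mul_mem (mul_mem hgL hzL) (inv_mem hgL)⟩,
          mem_classFinset.mpr (isConj_iff.mpr ⟨⟨g, hgL⟩, Subtype.ext hg⟩), rfl⟩
    rw [hc2, card_classFinset]
    refine hHall.coprime_dvd_right (Subgroup.index_dvd_of_le fun y hy => ?_)
    exact Subgroup.mem_centralizer_singleton_iff.mpr
      (Subtype.ext (show (y : G) * z = z * y from (hZc z hz y (Subgroup.mem_subgroupOf.mp hy)).symm))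
  exact Int.dvd_of_dvd_mul_right_of_gcd_one hdvd (by
    rw [Int.gcd_natCast_natCast]; exact hcop)

end Cfsg.Lib.Char.FT
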