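import Cfsg.Agent.Lib.Char.Quotient
import Cfsg.Agent.Lib.Char.Orthogonality

/-!
A character which is nontrivial on a normal subgroup `H` vanishes at an element acting without fixed points on `H`.
-/

set_option autoImplicit false
set_option linter.style.haveILetI false

namespace Cfsg.Lib.Char.FT

open Cfsg Cfsg.Lib.Char
open scoped ComplexConjugate

universe u

theorem eq_zero_of_inf_centralizer_eq_bot {X : Type u} [Group X] [Finite X] (H : Subgroup X) [H.Normal]
    {χ : X → ℂ} (hχ : IsIrrCharacter X χ) (hnt : ∃ h ∈ H, χ h ≠ χ 1) {y : X}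
    (hy : ∀ h ∈ H, h * y = y * h → h = 1) : χ y = 0 := by
  classical
  haveI := Fintype.ofFinite X
  haveI := Fintype.ofFinite (X ⧸ H)
  have e1 := congrArg Complex.re (column_orthogonality y y)
  have e2 := congrArg Complex.re (column_orthogonality (y : X ⧸ H) (y : X ⧸ H))
  simp only [if_pos (IsConj.refl _), Complex.re_sum, Complex.natCast_re, Complex.mul_conj,
    Complex.ofReal_re] at e1 e2
  let f : ↥(Subgroup.centralizer ({y} : Set X)) → ↥(Subgroup.centralizer ({(y : X ⧸ H)} : Set (X ⧸ H))) :=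
    fun z => ⟨((z : X) : X ⧸ H), Subgroup.mem_centralizer_singleton_iff.mpr (by
      rw [← QuotientGroup.mk_mul, ← QuotientGroup.mk_mul, Subgroup.mem_centralizer_singleton_iff.mp z.2])⟩
  have hf : Function.Injective f := by
    intro a b e
    have hab : (a : X)⁻¹ * b ∈ H := QuotientGroup.eq.mp (congrArg Subtype.val e)
    have hc : (a : X)⁻¹ * b * y = y * ((a : X)⁻¹ * b) := Subgroup.mem_centralizer_singleton_iff.mp
      (mul_mem (inv_mem a.2) b.2)
    exact Subtype.ext (inv_mul_eq_one.mp (hy _ hab hc))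
  have hle : (Nat.card (Subgroup.centralizer ({y} : Set X)) : ℝ) ≤
      Nat.card (Subgroup.centralizer ({(y : X ⧸ H)} : Set (X ⧸ H))) :=
    Nat.cast_le.mpr (Nat.card_le_card_of_injective f hf)
  have e3 : ∑ φ : IrrCharacter (X ⧸ H), Complex.normSq ((φ : X ⧸ H → ℂ) y) =
      ∑ ψ ∈ Finset.univ.filter (fun ψ : IrrCharacter X => ∀ n ∈ H, (ψ : X → ℂ) n = (ψ : X → ℂ) 1),
        Complex.normSq ((ψ : X → ℂ) y) := by
    rw [Finset.sum_subtype _ (p := fun ψ : IrrCharacter X => ∀ n ∈ H, (ψ : X → ℂ) n = (ψ : X → ℂ) 1)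
      (fun ψ => by simp)]
    exact Fintype.sum_equiv (irrQuotientEquiv H) _ _ fun φ => rfl
  rw [← e1, ← e2, e3, ← Finset.sum_filter_add_sum_filter_not Finset.univ
    (fun ψ : IrrCharacter X => ∀ n ∈ H, (ψ : X → ℂ) n = (ψ : X → ℂ) 1)] at hle
  have hmem : (⟨χ, hχ⟩ : IrrCharacter X) ∈ Finset.univ.filter
      (fun ψ : IrrCharacter X => ¬ ∀ n ∈ H, (ψ : X → ℂ) n = (ψ : X → ℂ) 1) :=
    Finset.mem_filter.mpr ⟨Finset.mem_univ _, fun h => by
      obtain ⟨n, hn, hne⟩ := hnt
      exact hne (h n hn)⟩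
  have h1 := Finset.single_le_sum (f := fun ψ : IrrCharacter X => Complex.normSq ((ψ : X → ℂ) y))
    (fun ψ _ => Complex.normSq_nonneg _) hmem
  exact Complex.normSq_eq_zero.mp (le_antisymm (by linarith) (Complex.normSq_nonneg _))

end Cfsg.Lib.Char.FT
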