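import Cfsg.Agent.Lib.Char.FT.TypeP
import Cfsg.Agent.Lib.Char.FT.Vanish
import Cfsg.Agent.S1537

/-!
The Dade map of a maximal subgroup of type P on differences inside a row of the grid (Peterfalvi (4.8)).
-/

set_option autoImplicit false
set_option linter.unusedSectionVars false
set_option linter.style.haveILetI false

namespace Cfsg.Lib.Char.FT

open Cfsg Cfsg.Lib.Char Cfsg.Lib.Local.Sigma
open scoped commutatorElement ComplexConjugate

universe u

variable {G : Type u} [Group G] [Fintype G] {M W₁ W₂ U : Subgroup G}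

/-- The Dade map of `M` on `A₀(M)`. -/
noncomputable abbrev tau (M : Subgroup G) (α : M → ℂ) : G → ℂ :=
  dadeIsometry (Cfsg.typeA0 M) M (Cfsg.supportR M) α

/-- A function on `M'` that is not constant on `H = M_F`. -/
def NontrivOn (M : Subgroup G) (θ : derivedIn M → ℂ) : Prop :=
  ∃ h : derivedIn M, ((h : M) : G) ∈ Cfsg.fittingHallOf M ∧ θ h ≠ θ 1

/-- All the data attached to a maximal subgroup of type P. -/
structure Side (M W₁ W₂ U : Subgroup G) [Fintype M] [Fintype (Row W₁ W₂)]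
    (μ : Row W₁ W₂ → Col W₁ W₂ → M → ℂ) (δ : Col W₁ W₂ → ℤ) (χ : (↥(W₁ ⊔ W₂) →* ℂˣ) → (G → ℂ)) : Prop where
  minimal : Cfsg.IsMinSimpleOddOrder G
  coatom : IsCoatom M
  typeP : Cfsg.IsTypePWith M W₁ U W₂
  grid : IsGrid M W₁ W₂ μ δ
  family : IsCyclicTIFamily W₁ W₂ χ

theorem exists_side [Fintype M] [Fintype (Row W₁ W₂)] (hG : Cfsg.IsMinSimpleOddOrder G) (hM : IsCoatom M)
    (hP : Cfsg.IsTypePWith M W₁ U W₂) : ∃ μ δ χ, Side M W₁ W₂ U μ δ χ := by
  obtain ⟨μ, δ, hμ⟩ := exists_grid hG hP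
  obtain ⟨χ, hχ⟩ := exists_isCyclicTIFamily hP.selfNormalizing (Cfsg.Lib.Local.Uniq.odd_subgroup hG _)
  exact ⟨μ, δ, χ, hG, hM, hP, hμ, hχ⟩

variable [Fintype M] [Fintype (Row W₁ W₂)] {μ : Row W₁ W₂ → Col W₁ W₂ → M → ℂ} {δ : Col W₁ W₂ → ℤ}
  {χ : (↥(W₁ ⊔ W₂) →* ℂˣ) → (G → ℂ)}

theorem Side.dade (S : Side M W₁ W₂ U μ δ χ) :
    DadeHypothesis (Cfsg.typeA0 M) M (Cfsg.supportR M) :=
  (Cfsg.Agent.S1537.result S.minimal M S.coatom _ (Or.inr (Or.inr rfl))).2

theorem Side.odd (S : Side M W₁ W₂ U μ δ χ) : Odd (Nat.card G) := S.minimal.1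

theorem Side.exists_decomp (S : Side M W₁ W₂ U μ δ χ) :
    ∃ K₀ U₀ : Subgroup G, Cfsg.IsSigmaDecomposition M K₀ U₀ ∧ K₀ ≠ ⊥ := by
  obtain ⟨K₀, U₀, h⟩ := exists_decomposition S.minimal S.coatom
  exact ⟨K₀, U₀, h, ne_bot_of_typeP S.minimal S.coatom h S.typeP⟩

theorem Side.not_typeI (S : Side M W₁ W₂ U μ δ χ) : ¬ Cfsg.IsOfTypeI M := fun hI => by
  obtain ⟨K₀, U₀, h, hne⟩ := S.exists_decomp
  exact hne (eq_bot_of_typeI S.minimal S.coatom h hI).1

/-- `W ∖ (W₁ ∪ W₂)` and its conjugates lie in `A₀`. -/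
theorem Side.outer_mem (S : Side M W₁ W₂ U μ δ χ) {m w : G} (hm : m ∈ M) (hw : w ∈ W₁ ⊔ W₂) (h₁ : w ∉ W₁)
    (h₂ : w ∉ W₂) : m * w * m⁻¹ ∈ Cfsg.typeA0 M :=
  Or.inr ⟨S.not_typeI, W₁, U, W₂, S.typeP, m, hm, w, hw, h₁, h₂, rfl⟩

theorem Side.mem_typeA0_of_comm (S : Side M W₁ W₂ U μ δ χ) {x : M} (hx : x ∈ derivedIn M) (hx1 : x ≠ 1) {h : G}
    (hh : h ∈ Cfsg.fittingHallOf M) (hh1 : h ≠ 1) (hc : h * x = x * h) : (x : G) ∈ Cfsg.typeA0 M := by
  obtain ⟨K₀, U₀, hd, -⟩ := S.exists_decomp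
  refine Or.inl ?_
  rw [Cfsg.typeA, if_neg S.not_typeI]
  exact ⟨hx, fun e => hx1 (Subtype.ext e), h,
    (typeCore_eq_sigmaCore S.minimal S.coatom hd).ge (fittingHallOf_le S.minimal S.coatom hh), hh1, hc.symm⟩

/-- A criterion for support in `A₀`. -/
theorem Side.supp_typeA0 (S : Side M W₁ W₂ U μ δ χ) {α : M → ℂ} (hα : IsClassFunction M α) (h1 : α 1 = 0)
    (hK : ∀ x ∈ derivedIn M, x ≠ 1 → (∀ h ∈ Cfsg.fittingHallOf M, h * x = x * h → h = 1) → α x = 0)
    (hW : ∀ w : M, (w : G) ∈ W₁ → w ≠ 1 → α w = 0) : ∀ x : M, (x : G) ∉ Cfsg.typeA0 M → α x = 0 := by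
  intro x hx
  by_cases hxK : x ∈ derivedIn M
  · by_cases hx1 : x = 1
    · rw [hx1, h1]
    refine hK x hxK hx1 fun h hh hc => by_contra fun hh1 => hx (S.mem_typeA0_of_comm hxK hx1 hh hh1 hc)
  · obtain ⟨y, w, hw, hw2, rfl⟩ := S.grid.conj_off x hxK
    rw [hα w y]
    by_cases hw1 : (w : G) ∈ W₁
    · exact hW w hw1 fun e => hw2 (by rw [e]; exact one_mem _)
    · exact absurd (by simpa using S.outer_mem y.2 hw hw1 hw2) hx

/-- The Dade map does not change values on `A₀`. -/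
theorem Side.tau_apply (S : Side M W₁ W₂ U μ δ χ) {α : M → ℂ} (hα : IsClassFunction M α) (x : M)
    (hx : (x : G) ∈ Cfsg.typeA0 M) : tau M α x = α x :=
  dadeIsometry_eq S.dade hα hx (x := 1) (u := 1) (one_mem _) (by group)

/-- A column character of nontrivial restriction to `H` vanishes at regular elements. -/
theorem Side.mu_eq_zero (S : Side M W₁ W₂ U μ δ χ) (i : Row W₁ W₂) {j : Col W₁ W₂}
    (hj : NontrivOn M (colTheta M μ j)) {x : M} (hx : x ∈ derivedIn M)
    (hreg : ∀ h ∈ Cfsg.fittingHallOf M, h * x = x * h → h = 1) : μ i j x = 0 := by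
  rw [S.grid.eq_on i (row0 W₁ W₂) j x hx]
  let N : Subgroup (derivedIn M) := ((Cfsg.fittingHallOf M).subgroupOf M).subgroupOf (derivedIn M)
  haveI : N.Normal := ⟨fun n hn g => by
    rw [Subgroup.mem_subgroupOf, Subgroup.mem_subgroupOf] at hn ⊢
    exact (Subgroup.mem_normalizer_iff.mp (le_normalizer_fittingHallOf (g : M).2) _).mp hn⟩
  obtain ⟨h, hh, hne⟩ := hj
  exact eq_zero_of_inf_centralizer_eq_bot N (S.grid.theta_irr j) ⟨h, hh, hne⟩ (y := ⟨x, hx⟩) fun z hz hc =>
    Subtype.ext (Subtype.ext (hreg _ hz (congrArg (fun t : derivedIn M => ((t : M) : G)) hc)))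

/-- Peterfalvi (4.8). -/
theorem Side.tau_mu_sub (S : Side M W₁ W₂ U μ δ χ) (i : Row W₁ W₂) {j k : Col W₁ W₂} (hjk : j ≠ k)
    (hδ : δ j = δ k) (hd : μ i j 1 = μ i k 1) (hj : NontrivOn M (colTheta M μ j))
    (hk : NontrivOn M (colTheta M μ k)) :
    (∀ x : M, (x : G) ∉ Cfsg.typeA0 M → (μ i j - μ i k) x = 0) ∧
      tau M (μ i j - μ i k) = (δ j : ℂ) • (eta χ i j - eta χ i k) := by
  classical
  set α := μ i j - μ i k with hαdef
  have hαc : IsClassFunction M α := fun a b => by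
    simp [hαdef, (S.grid.irr i j).isClassFunction a b, (S.grid.irr i k).isClassFunction a b]
  have hsupp : ∀ x : M, (x : G) ∉ Cfsg.typeA0 M → α x = 0 := S.supp_typeA0 hαc (by simp [hαdef, hd])
    (fun x hx _ hreg => by simp [hαdef, S.mu_eq_zero i hj hx hreg, S.mu_eq_zero i hk hx hreg])
    fun w hw hw1 => by
      have hw2 : (w : G) ∉ W₂ := fun h => hw1 (Subtype.ext
        (Subgroup.mem_bot.mp (S.typeP.selfNormalizing.2.2.1.le ⟨hw, h⟩)))
      simp only [hαdef, Pi.sub_apply]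
      rw [S.grid.apply_off i j w (Subgroup.mem_sup_left hw) hw2, S.grid.apply_off i k w (Subgroup.mem_sup_left hw) hw2,
        j.2 _ hw, k.2 _ hw, hδ, sub_self]
  refine ⟨hsupp, ?_⟩
  have hW := S.typeP.selfNormalizing
  haveI := finite_hom (G := G) hW.2.2.2.2.1
  letI : Fintype (Col W₁ W₂) := Fintype.ofFinite _
  have hgen : IsGeneralizedCharacter G (tau M α) := isGeneralizedCharacter_dadeIsometry S.dade
    ((S.grid.irr i j).isCharacter.isGeneralized.sub (S.grid.irr i k).isCharacter.isGeneralized) hsupp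
  have hne : μ i j ≠ μ i k := fun e => hjk (S.grid.inj _ _ _ _ e).2
  have hN : classInner (tau M α) (tau M α) = 2 := by
    rw [classInner_dadeIsometry_dadeIsometry S.dade hαc hsupp hαc, hαdef, classInner_sub_left,
      classInner_sub_right, classInner_sub_right, classInner_irr_self (S.grid.irr i j),
      classInner_irr_self (S.grid.irr i k), classInner_irr_ne (S.grid.irr i j) (S.grid.irr i k) hne,
      classInner_irr_ne (S.grid.irr i k) (S.grid.irr i j) hne.symm]
    norm_num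
  set B : G → ℂ := (δ j : ℂ) • (eta χ i j - eta χ i k)
  have hBc : IsClassFunction G B := fun a b => by
    simp [B, eta_classFun S.family i j a b, eta_classFun S.family i k a b]
  have hBgen : IsGeneralizedCharacter G B := by
    have h := (eta_gen S.family i j).sub (eta_gen S.family i k)
    rcases S.grid.sign j with e | e
    · simpa [B, e] using h
    · simpa [B, e] using h.neg
  have hτc : IsClassFunction G (tau M α) := isClassFunction_dadeIsometry S.dade hαc
  have hV : ∀ w : ↥(W₁ ⊔ W₂), (w : G) ∉ W₁ → (w : G) ∉ W₂ → (tau M α - B) w = 0 := by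
    intro w h1 h2
    let x : M := ⟨w, sup_le_of_typeP S.typeP w.2⟩
    have hx : (x : G) ∈ Cfsg.typeA0 M := by simpa [x] using S.outer_mem (one_mem M) w.2 h1 h2
    rw [Pi.sub_apply, show tau M α (w : G) = α x from S.tau_apply hαc x hx]
    simp only [hαdef, B, Pi.sub_apply, Pi.smul_apply, smul_eq_mul]
    rw [S.grid.apply_off i j x w.2 h2, S.grid.apply_off i k x w.2 h2, hδ, eta_apply S.family i j w h1 h2,
      eta_apply S.family i k w h1 h2]
    ring
  obtain ⟨a, ha⟩ := exists_coef S.family (hgen.sub hBgen)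
  have hadd := additive_coef hW S.family (fun p r => by simp [hτc p r, hBc p r]) hV ha
  let b : Row W₁ W₂ → Col W₁ W₂ → ℤ := fun l m =>
    δ j * ((if l = i ∧ m = j then 1 else 0) - (if l = i ∧ m = k then 1 else 0)) + a l m
  have hb : ∀ l m, classInner (tau M α) (eta χ l m) = b l m := fun l m => by
    have h := ha l m
    rw [classInner_sub_left, classInner_smul_left, classInner_sub_left, eta_orthonormal S.family,
      eta_orthonormal S.family] at h
    simp only [b]
    push_cast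
    simp only [eq_comm (a := i), eq_comm (a := j), eq_comm (a := k)] at h
    linear_combination h
  have ha0 : a = 0 := eq_zero_of_pair hadd
    (by rw [← Nat.card_eq_fintype_card, card_row hW]; exact three_le_card_of_odd S.odd hW.1)
    (S.grid.sign j) (i := i) hjk (coef_norm_le' S.family hb (N := 2) (by rw [hN]; norm_num))
  refine sub_eq_zero.mp (eq_zero_of_classInner_self ?_)
  have h1 : classInner (tau M α - B) B = 0 := by
    rw [show classInner (tau M α - B) B = classInner (tau M α - B) ((δ j : ℂ) • (eta χ i j - eta χ i k)) from rfl,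
      classInner_smul_right, classInner_sub_right, ha, ha, ha0]
    simp
  have h2 : classInner B (tau M α - B) = 0 := classInner_symm_zero h1
  rw [classInner_sub_right, h1, sub_zero, classInner_sub_left, hN]
  rw [classInner_sub_right] at h2
  rw [sub_eq_zero] at h2
  rw [h2, show classInner B B = 2 by
    simp only [B]
    rw [classInner_smul_left, classInner_smul_right, classInner_sub_left, classInner_sub_right,
      classInner_sub_right]
    simp only [eta_orthonormal S.family, if_pos (⟨rfl, rfl⟩ : i = i ∧ j = j), if_pos (⟨rfl, rfl⟩ : i = i ∧ k = k),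
      if_neg fun e : i = i ∧ j = k => hjk e.2, if_neg fun e : i = i ∧ k = j => hjk e.2.symm]
    rcases S.grid.sign j with e | e <;> simp [e, hjk, hjk.symm] <;> norm_num]
  norm_num

end Cfsg.Lib.Char.FT
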