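import Mathlib

/-!
Integer grids that are sums of a function of the row and a function of the column (the coefficients on a
cyclic TI family of a class function vanishing on `W \ (W₁ ∪ W₂)`), and the norm bounds used in
Peterfalvi 9-10.
-/

set_option autoImplicit false

namespace Cfsg.Lib.Char.FT

variable {I : Type*} {J : Type*} [Fintype I] [Fintype J]

/-- A grid with vanishing mixed differences. -/
def Additive (X : I → J → ℤ) : Prop := ∀ i i' j j', X i j + X i' j' = X i j' + X i' j

omit [Fintype I] [Fintype J] in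
theorem Additive.sub_eq {X : I → J → ℤ} (h : Additive X) (i i' : I) (j k : J) :
    X i j - X i k = X i' j - X i' k := by
  have := h i i' j k
  linarith

omit [Fintype I] [Fintype J] in
theorem Additive.sub {X Y : I → J → ℤ} (h : Additive X) (h' : Additive Y) : Additive (X - Y) := by
  intro i i' j j'
  have := h i i' j j'
  have := h' i i' j j'
  simp only [Pi.sub_apply]
  linarith

theorem grid_abs_le_sq (a : ℤ) : |a| ≤ a ^ 2 := by
  rcases eq_or_ne a 0 with rfl | ha
  · simp
  · rw [← sq_abs a]
    exact le_self_pow₀ (Int.one_le_abs ha) two_ne_zero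

/-- An additive grid of norm at most two is zero. -/
theorem eq_zero_of_sum_sq_le {X : I → J → ℤ} (hX : Additive X) (hI : 3 ≤ Fintype.card I)
    (hJ : 3 ≤ Fintype.card J) (h : ∑ i, ∑ j, X i j ^ 2 ≤ 2) : X = 0 := by
  classical
  funext l m
  by_contra hne
  change X l m ≠ 0 at hne
  obtain ⟨l₁, hl₁⟩ := Fintype.exists_ne_of_one_lt_card (by omega) l
  obtain ⟨l₂, hl₂, hl₂'⟩ : ∃ x, x ≠ l ∧ x ≠ l₁ := by
    by_contra hc
    push Not at hc
    have : Finset.univ ⊆ ({l, l₁} : Finset I) := fun x _ => by
      by_cases hx : x = l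
      · simp [hx]
      · simp [hc x hx]
    have := (Finset.card_le_card this).trans Finset.card_le_two
    rw [Finset.card_univ] at this
    omega
  obtain ⟨m₁, hm₁⟩ := Fintype.exists_ne_of_one_lt_card (by omega) m
  obtain ⟨m₂, hm₂, hm₂'⟩ : ∃ x, x ≠ m ∧ x ≠ m₁ := by
    by_contra hc
    push Not at hc
    have : Finset.univ ⊆ ({m, m₁} : Finset J) := fun x _ => by
      by_cases hx : x = m
      · simp [hx]
      · simp [hc x hx]
    have := (Finset.card_le_card this).trans Finset.card_le_two
    rw [Finset.card_univ] at this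
    omega
  have key : ∀ l' m', 1 ≤ X l' m' ^ 2 + X l m' ^ 2 + X l' m ^ 2 := by
    intro l' m'
    by_contra hc
    push Not at hc
    have h1 : X l' m' = 0 := by nlinarith [sq_nonneg (X l m'), sq_nonneg (X l' m), sq_nonneg (X l' m')]
    have h2 : X l m' = 0 := by nlinarith [sq_nonneg (X l m'), sq_nonneg (X l' m), sq_nonneg (X l' m')]
    have h3 : X l' m = 0 := by nlinarith [sq_nonneg (X l m'), sq_nonneg (X l' m), sq_nonneg (X l' m')]
    exact hne (by have := hX l l' m m'; omega)
  let S : Finset (I × J) := {(l, m), (l₁, m₁), (l, m₁), (l₁, m), (l₂, m₂), (l, m₂), (l₂, m)}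
  have hS : ∑ x ∈ S, X x.1 x.2 ^ 2 ≤ ∑ i, ∑ j, X i j ^ 2 := by
    rw [← Fintype.sum_prod_type']
    exact Finset.sum_le_sum_of_subset_of_nonneg (Finset.subset_univ _) fun x _ _ => sq_nonneg _
  have hone : 1 ≤ X l m ^ 2 := by
    have := grid_abs_le_sq (X l m)
    have := Int.one_le_abs hne
    omega
  simp only [S, Finset.sum_insert, Finset.mem_insert, Finset.mem_singleton, Prod.mk.injEq, hl₁.symm,
    hl₂.symm, hl₂'.symm, hl₁, hl₂, hl₂', hm₁.symm, hm₂.symm, hm₂'.symm, hm₁, hm₂, hm₂', and_false,
    false_and, or_false, not_false_eq_true, Finset.sum_singleton] at hS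
  have := key l₁ m₁
  have := key l₂ m₂
  omega

/-- T1(a): a difference of two entries of one row cannot be cancelled. -/
theorem eq_zero_of_pair {X : I → J → ℤ} (hX : Additive X) (hI : 3 ≤ Fintype.card I) [DecidableEq I]
    [DecidableEq J] {s : ℤ} (hs : s = 1 ∨ s = -1) {i : I} {j k : J} (hjk : j ≠ k)
    (h : ∑ l, ∑ m, (s * ((if l = i ∧ m = j then 1 else 0) - (if l = i ∧ m = k then 1 else 0)) + X l m) ^ 2
      ≤ 2) : X = 0 := by
  have hexp : ∀ l m, (s * ((if l = i ∧ m = j then (1 : ℤ) else 0) - (if l = i ∧ m = k then 1 else 0)) + X l m) ^ 2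
      = X l m ^ 2 + ((if l = i then (if m = j then (1 + 2 * s * X l m) else 0) else 0)
        + (if l = i then (if m = k then (1 - 2 * s * X l m) else 0) else 0)) := by
    intro l m
    have hs2 : s ^ 2 = 1 := by rcases hs with rfl | rfl <;> norm_num
    by_cases hl : l = i
    · by_cases h1 : m = j
      · subst h1
        simp [hl, hjk]
        linear_combination hs2
      · by_cases h2 : m = k
        · simp [hl, h1, h2, hjk.symm]
          linear_combination hs2
        · simp [hl, h1, h2]
    · simp [hl]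
  simp only [hexp, Finset.sum_add_distrib, Finset.sum_ite_irrel, Finset.sum_const_zero,
    Finset.sum_ite_eq', Finset.mem_univ, if_true] at h
  set D := X i j - X i k with hD
  have hrow : ∀ l, |D| ≤ ∑ m, X l m ^ 2 := by
    intro l
    calc |D| = |X l j - X l k| := by rw [hD, hX.sub_eq i l j k]
      _ ≤ |X l j| + |X l k| := abs_sub _ _
      _ ≤ X l j ^ 2 + X l k ^ 2 := add_le_add (grid_abs_le_sq _) (grid_abs_le_sq _)
      _ = ∑ m ∈ ({j, k} : Finset J), X l m ^ 2 := (Finset.sum_pair (f := fun m => X l m ^ 2) hjk).symm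
      _ ≤ ∑ m, X l m ^ 2 := Finset.sum_le_sum_of_subset_of_nonneg (Finset.subset_univ _)
          fun x _ _ => sq_nonneg _
  have h1 : (Fintype.card I : ℤ) * |D| ≤ ∑ l, ∑ m, X l m ^ 2 :=
    calc (Fintype.card I : ℤ) * |D| = ∑ _l : I, |D| := by simp
      _ ≤ _ := Finset.sum_le_sum fun l _ => hrow l
  have h2 : ∑ l, ∑ m, X l m ^ 2 ≤ 2 * |D| := by
    have h4 : -(s * D) ≤ |D| := by
      rcases hs with rfl | rfl
      · simpa using neg_le_abs D
      · simpa using le_abs_self D
    rw [hD] at h4 ⊢
    linarith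
  have h3 : |D| = 0 := by
    have hI' : (3 : ℤ) ≤ Fintype.card I := by exact_mod_cast hI
    nlinarith [abs_nonneg D]
  rw [h3, mul_zero] at h2
  funext l m
  have := (Finset.sum_eq_zero_iff_of_nonneg (fun x _ => sq_nonneg _)).1
    (le_antisymm (le_trans (Finset.single_le_sum (f := fun l => ∑ m, X l m ^ 2)
      (fun x _ => Finset.sum_nonneg fun y _ => sq_nonneg _) (Finset.mem_univ l)) h2)
      (Finset.sum_nonneg fun y _ => sq_nonneg _)) m (Finset.mem_univ m)
  simpa using this

/-- T1(b): a column translated by an additive grid, within the same norm. -/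
theorem col_cases {X : I → J → ℤ} (hX : Additive X) (hI : 0 < Fintype.card I) [DecidableEq J]
    {j k : J} (hjk : j ≠ k) (hJ : 3 ≤ Fintype.card J)
    (hj : ∑ l, ∑ m, ((if m = j then 1 else 0) + X l m) ^ 2 ≤ (Fintype.card I : ℤ))
    (hk : ∑ l, ∑ m, ((if m = k then 1 else 0) + X l m) ^ 2 ≤ (Fintype.card I : ℤ)) :
    X = 0 ∨ ∀ l m, X l m = if m = j ∨ m = k then -1 else 0 := by
  classical
  set S : J → ℤ := fun m => ∑ l, X l m with hS
  set T := ∑ l, ∑ m, X l m ^ 2 with hT
  have hexp : ∀ a : J, ∑ l, ∑ m, ((if m = a then 1 else 0) + X l m) ^ 2 = T + 2 * S a + Fintype.card I := by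
    intro a
    have : ∀ l m, ((if m = a then (1 : ℤ) else 0) + X l m) ^ 2 =
        X l m ^ 2 + ((if m = a then 2 * X l m else 0) + (if m = a then 1 else 0)) := by
      intro l m
      split_ifs <;> ring
    simp only [this, Finset.sum_add_distrib, Finset.sum_ite_eq', Finset.mem_univ, if_true, ← Finset.mul_sum,
      Finset.sum_const, Finset.card_univ, nsmul_eq_mul, mul_one, hS, hT]
    ring
  rw [hexp] at hj hk
  set A : J → ℤ := fun m => ∑ l, X l m ^ 2 with hA
  have hTA : T = ∑ m, A m := Finset.sum_comm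
  have hA0 : ∀ m, 0 ≤ A m := fun m => Finset.sum_nonneg fun x _ => sq_nonneg _
  have hSA : ∀ m, -S m ≤ A m := fun m => by
    rw [← Finset.sum_neg_distrib]
    exact Finset.sum_le_sum fun l _ => (neg_le_abs _).trans (grid_abs_le_sq _)
  have hsplit : T = A j + A k + ∑ m ∈ Finset.univ \ {j, k}, A m := by
    rw [hTA, ← Finset.sum_sdiff (Finset.subset_univ ({j, k} : Finset J)), Finset.sum_pair hjk]
    ring
  have hrest : ∑ m ∈ Finset.univ \ {j, k}, A m = 0 ∧ A j = -S j ∧ A k = -S k := by
    have := hSA j; have := hSA k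
    have := Finset.sum_nonneg (s := Finset.univ \ {j, k}) fun m _ => hA0 m
    omega
  have hother : ∀ l m, m ≠ j → m ≠ k → X l m = 0 := by
    intro l m h1 h2
    have h3 := (Finset.sum_eq_zero_iff_of_nonneg fun m _ => hA0 m).1 hrest.1 m (by simp [h1, h2])
    have h4 := (Finset.sum_eq_zero_iff_of_nonneg fun x _ => sq_nonneg _).1 h3 l (Finset.mem_univ l)
    simpa using h4
  obtain ⟨m₀, hm₀j, hm₀k⟩ : ∃ m, m ≠ j ∧ m ≠ k := by
    by_contra hc
    push Not at hc
    have : Finset.univ ⊆ ({j, k} : Finset J) := fun x _ => by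
      by_cases hx : x = j
      · simp [hx]
      · simp [hc x hx]
    have := (Finset.card_le_card this).trans Finset.card_le_two
    rw [Finset.card_univ] at this
    omega
  obtain ⟨l₀⟩ := Fintype.card_pos_iff.1 hI
  have hconst : ∀ l m, X l m = X l₀ m := fun l m => by
    have := hX l l₀ m m₀
    rw [hother l m₀ hm₀j hm₀k, hother l₀ m₀ hm₀j hm₀k] at this
    linarith
  have hval : ∀ a, A a = -S a → X l₀ a = 0 ∨ X l₀ a = -1 := by
    intro a ha
    simp only [hA, hS, hconst _ a, Finset.sum_const, Finset.card_univ, nsmul_eq_mul] at ha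
    have hI' : (0 : ℤ) < Fintype.card I := by exact_mod_cast hI
    have : X l₀ a * (X l₀ a + 1) = 0 := mul_left_cancel₀ hI'.ne' (by rw [mul_zero]; linear_combination ha)
    rcases mul_eq_zero.1 this with h | h
    · exact Or.inl h
    · exact Or.inr (by omega)
  have hSv : ∀ a, S a = Fintype.card I * X l₀ a := fun a => by simp [hS, hconst _ a]
  have hI' : (0 : ℤ) < Fintype.card I := by exact_mod_cast hI
  have hkj : X l₀ j = X l₀ k := by
    have h1 := hrest.2.1; have h2 := hrest.2.2
    have h3 := hrest.1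
    rw [hSv] at h1 h2 hj hk
    rcases hval j hrest.2.1 with e1 | e1 <;> rcases hval k hrest.2.2 with e2 | e2 <;> rw [e1] at h1 hj <;>
      rw [e2] at h2 hk <;> omega
  rcases hval j hrest.2.1 with e | e
  · left
    funext l m
    by_cases h1 : m = j
    · subst h1; rw [hconst, e]; rfl
    · by_cases h2 : m = k
      · subst h2; rw [hconst, ← hkj, e]; rfl
      · exact hother l m h1 h2
  · right
    intro l m
    by_cases h1 : m = j
    · subst h1; simp [hconst l m, e]
    · by_cases h2 : m = k
      · subst h2; simp [hconst l m, ← hkj, e]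
      · simp [h1, h2, hother l m h1 h2]

/-- With a third admissible column the translation is zero. -/
theorem col_eq_zero {X : I → J → ℤ} (hX : Additive X) (hI : 0 < Fintype.card I) [DecidableEq J]
    {j k a : J} (hjk : j ≠ k) (haj : a ≠ j) (hak : a ≠ k)
    (hj : ∑ l, ∑ m, ((if m = j then 1 else 0) + X l m) ^ 2 ≤ (Fintype.card I : ℤ))
    (hk : ∑ l, ∑ m, ((if m = k then 1 else 0) + X l m) ^ 2 ≤ (Fintype.card I : ℤ))
    (ha : ∑ l, ∑ m, ((if m = a then 1 else 0) + X l m) ^ 2 ≤ (Fintype.card I : ℤ)) : X = 0 := by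
  classical
  have hJ : 3 ≤ Fintype.card J := by
    have : ({a, j, k} : Finset J).card = 3 := by simp [haj, hak, hjk]
    exact this ▸ Finset.card_le_univ _
  rcases col_cases hX hI hjk hJ hj hk with h | h
  · exact h
  rcases col_cases hX hI haj hJ ha hj with h' | h'
  · exact h'
  obtain ⟨l⟩ := Fintype.card_pos_iff.1 hI
  have e1 := h l k
  have e2 := h' l k
  simp [hjk.symm, hak.symm] at e1 e2
  omega

end Cfsg.Lib.Char.FT
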