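import Cfsg.Agent.Lib.Char.FT.Eta
import Cfsg.Agent.Lib.Char.Dade
import Cfsg.Agent.Lib.Char.Quotient
import Cfsg.Agent.Lib.Char.Clifford
import Cfsg.Agent.S1510
import Cfsg.Agent.S1511
import Cfsg.Agent.S1513

/-!
The grid of irreducible characters of a group with a cyclic complement acting with prime action,
indexed by the rows and the columns.
-/

set_option autoImplicit false
set_option linter.unusedSectionVars false
set_option linter.style.haveILetI false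

namespace Cfsg.Lib.Char.FT

open Cfsg Cfsg.Lib.Char

universe u

variable {L : Type u} [Group L] {K W₁ W₂ : Subgroup L}

/-- The hypotheses of Peterfalvi (4.2). -/
structure PrimeCompl (K W₁ W₂ : Subgroup L) : Prop where
  normal : K.Normal
  disj : K ⊓ W₁ = ⊥
  sup : K ⊔ W₁ = ⊤
  ne₁ : W₁ ≠ ⊥
  cyclic₁ : IsCyclic W₁
  hall : Nat.Coprime (Nat.card W₁) W₁.index
  ne₂ : W₂ ≠ ⊥
  cyclic₂ : IsCyclic W₂
  le : W₂ ≤ K
  cent : ∀ x ∈ W₁, x ≠ 1 → K ⊓ Subgroup.centralizer ({x} : Set L) = W₂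
  odd : Odd (Nat.card ↥(W₁ ⊔ W₂))

theorem PrimeCompl.selfNormalizing [Fintype L] (h : PrimeCompl K W₁ W₂) : IsSelfNormalizingCyclic W₁ W₂ := by
  haveI := h.normal
  exact Cfsg.Agent.S1510.result K W₁ W₂ h.disj h.sup h.ne₁ h.cyclic₁ h.hall h.ne₂ h.cyclic₂ h.le h.cent h.odd

theorem PrimeCompl.complement (h : PrimeCompl K W₁ W₂) (g : L) : ∃ k ∈ K, ∃ w ∈ W₁, k * w = g := by
  haveI := h.normal
  have hg : g ∈ ((K ⊔ W₁ : Subgroup L) : Set L) := by rw [h.sup]; exact Subgroup.mem_top g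
  rw [Subgroup.normal_mul] at hg
  exact Set.mem_mul.mp hg

theorem PrimeCompl.inter (h : PrimeCompl K W₁ W₂) {w : L} (hw : w ∈ W₁ ⊔ W₂) (hwK : w ∈ K)
    (hcomm : ∀ a ∈ W₁, ∀ b ∈ W₂, a * b = b * a) (hdisj : W₁ ⊓ W₂ = ⊥) : w ∈ W₂ := by
  obtain ⟨p, q, hp, hq, hpq, -, -⟩ := cti_exists_proj hdisj hcomm
  set x : ↥(W₁ ⊔ W₂) := ⟨w, hw⟩
  have he : (p x : L) * q x = w := congrArg Subtype.val (hpq x)
  have : (p x : L) ∈ K := by
    rw [eq_mul_inv_of_mul_eq he]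
    exact K.mul_mem hwK (K.inv_mem (h.le (hq x)))
  have h1 : (p x : L) = 1 := Subgroup.mem_bot.mp (h.disj.le ⟨this, hp x⟩)
  rw [← he, h1, one_mul]
  exact hq x

theorem PrimeCompl.index_eq (h : PrimeCompl K W₁ W₂) : K.index = Nat.card W₁ ∧ W₁.index = Nat.card K := by
  haveI := h.normal
  have hc : K.IsComplement' W₁ := Subgroup.isComplement'_of_disjoint_and_mul_eq_univ
    (disjoint_iff.mpr h.disj) (by rw [← Subgroup.normal_mul, h.sup]; rfl)
  exact ⟨hc.symm.index_eq_card, hc.index_eq_card⟩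

/-- Outside `K` everything is conjugate into `W` off `W₂`. -/
theorem PrimeCompl.exists_conj [Finite L] (h : PrimeCompl K W₁ W₂) {x : L} (hx : x ∉ K) :
    ∃ y w : L, w ∈ W₁ ⊔ W₂ ∧ w ∉ W₂ ∧ x = y * w * y⁻¹ := by
  haveI := h.normal
  obtain ⟨k, hk, v, hv, rfl⟩ := h.complement x
  have hv1 : v ≠ 1 := fun e => hx (by rw [e, mul_one]; exact hk)
  obtain ⟨y, -, c, hc, hcv, he⟩ := exists_conj_coset_centralizer K (g := v)
    (by rw [Subgroup.normalizer_eq_top]; exact Subgroup.mem_top v)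
    ((h.hall.coprime_dvd_left (Subgroup.orderOf_dvd_natCard W₁ hv)).coprime_dvd_right
      h.index_eq.2.symm.dvd) hk
  have hc2 : c ∈ W₂ := (h.cent v hv hv1).le ⟨hc, Subgroup.mem_centralizer_singleton_iff.mpr hcv⟩
  refine ⟨y⁻¹, c * v, mul_mem (Subgroup.mem_sup_right hc2) (Subgroup.mem_sup_left hv), fun e => hv1 ?_, ?_⟩
  · have : v ∈ K := (K.mul_mem_cancel_left hc).mp (h.le e)
    exact Subgroup.mem_bot.mp (h.disj.le ⟨this, hv⟩)
  · rw [← he]; group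

/-- Every linear character of `W` is a product of a row and a column. -/
theorem exists_row_col (hdisj : W₁ ⊓ W₂ = ⊥) (hcomm : ∀ a ∈ W₁, ∀ b ∈ W₂, a * b = b * a)
    (ω : ↥(W₁ ⊔ W₂) →* ℂˣ) : ∃ (i : Row W₁ W₂) (j : Col W₁ W₂), i.1 * j.1 = ω := by
  obtain ⟨p, q, -, -, hpq, hp1, hq2⟩ := cti_exists_proj hdisj hcomm
  refine ⟨⟨ω.comp p, fun x hx => by rw [MonoidHom.comp_apply, (hq2 x hx).1, map_one]⟩,
    ⟨ω.comp q, fun x hx => by rw [MonoidHom.comp_apply, (hp1 x hx).2, map_one]⟩, ?_⟩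
  ext x
  show ((ω (p x) * ω (q x) : ℂˣ) : ℂ) = _
  rw [← map_mul, hpq]

/-- A character of `W` which is constant off `W₂` and trivial on no more is trivial. -/
theorem hom_eq_one_of_const (hdisj : W₁ ⊓ W₂ = ⊥) (hne : W₁ ≠ ⊥) (hodd : Odd (Nat.card W₁)) [Finite L]
    {ω : ↥(W₁ ⊔ W₂) →* ℂˣ} {c : ℂ} (hc2 : c * c = 1)
    (hω : ∀ w : ↥(W₁ ⊔ W₂), (w : L) ∉ W₂ → (ω w : ℂ) * c = 1) : c = 1 ∧ ω = 1 := by
  obtain ⟨a, ha, ha1⟩ := W₁.bot_or_exists_ne_one.resolve_left hne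
  have hout : ∀ n : ℕ, a ^ n ≠ 1 → a ^ n ∉ W₂ := fun n hn h =>
    hn (Subgroup.mem_bot.mp (hdisj.le ⟨pow_mem ha n, h⟩))
  have hsq : a ^ 2 ≠ 1 := fun e => ha1 (orderOf_eq_one_iff.mp (Nat.eq_one_of_dvd_coprimes
    (Nat.Coprime.symm (Nat.coprime_two_left.mpr hodd)) (Subgroup.orderOf_dvd_natCard W₁ ha)
    (orderOf_dvd_of_pow_eq_one e)))
  set x : ↥(W₁ ⊔ W₂) := ⟨a, Subgroup.mem_sup_left ha⟩
  have h1 := hω x (by simpa using hout 1 (by simpa using ha1))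
  have h2 := hω (x ^ 2) (by simpa [x] using hout 2 hsq)
  have hv : (ω x : ℂ) = c := by linear_combination c * h1 - (ω x : ℂ) * hc2
  rw [map_pow, Units.val_pow_eq_pow_val, hv] at h2
  have hc : c = 1 := by linear_combination h2 - c * hc2
  refine ⟨hc, MonoidHom.ext fun w => ?_⟩
  have key : ∀ w : ↥(W₁ ⊔ W₂), (w : L) ∉ W₂ → ω w = 1 := fun w hw => by
    have := hω w hw
    rw [hc, mul_one] at this
    exact Units.ext this
  by_cases hw : (w : L) ∈ W₂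
  · have hxw : ((x * w : ↥(W₁ ⊔ W₂)) : L) ∉ W₂ := fun e =>
      hout 1 (by simpa using ha1) (by rw [pow_one]; exact (W₂.mul_mem_cancel_right hw).mp e)
    have := key _ hxw
    rw [map_mul, key x (by simpa using hout 1 (by simpa using ha1)), one_mul] at this
    exact this
  · exact key w hw

/-- The grid `μ` with the signs `δ`. -/
structure IsMuFamily [Fintype L] (K W₁ W₂ : Subgroup L) (μ : Row W₁ W₂ → Col W₁ W₂ → L → ℂ)
    (δ : Col W₁ W₂ → ℤ) : Prop where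
  irr : ∀ i j, IsIrrCharacter L (μ i j)
  inj : ∀ i i' j j', μ i j = μ i' j' → i = i' ∧ j = j'
  sign : ∀ j, δ j = 1 ∨ δ j = -1
  apply_off : ∀ i j (w : ↥(W₁ ⊔ W₂)), (w : L) ∉ W₂ → μ i j w = δ j * ((i.1 w : ℂ) * (j.1 w : ℂ))
  other : ∀ θ : L → ℂ, IsIrrCharacter L θ → (∀ i j, θ ≠ μ i j) →
    ∀ w : ↥(W₁ ⊔ W₂), (w : L) ∉ W₂ → θ w = 0
  deg : ∀ i j, ∃ n : ℤ, μ i j 1 - δ j = n * (Nat.card W₁ : ℂ)
  delta_zero : δ (col0 W₁ W₂) = 1
  map_one : μ (row0 W₁ W₂) (col0 W₁ W₂) = fun _ => 1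
  eq_on : ∀ i i' j, ∀ x ∈ K, μ i j x = μ i' j x

theorem PrimeCompl.exists_mu [Fintype L] (h : PrimeCompl K W₁ W₂) :
    ∃ (μ : Row W₁ W₂ → Col W₁ W₂ → L → ℂ) (δ : Col W₁ W₂ → ℤ), IsMuFamily K W₁ W₂ μ δ := by
  haveI := h.normal
  classical
  obtain ⟨μ, δ, hinj, hirr, hsign, hdiff, hval, hoth, hdeg⟩ := Cfsg.Agent.S1511.result K W₁ W₂ h.disj h.sup
    h.ne₁ h.cyclic₁ h.hall h.ne₂ h.cyclic₂ h.le h.cent h.odd
  obtain ⟨hne₁, -, hdisj, hcomm, hcyc, -⟩ := id h.selfNormalizing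
  have hpair : ∀ (i i' : Row W₁ W₂) (j j' : Col W₁ W₂), i.1 * j.1 = i'.1 * j'.1 → i = i' ∧ j = j' :=
    fun i i' j j' e => by
      haveI : Fintype ↥(W₁ ⊔ W₂) := Fintype.ofFinite _
      obtain ⟨e1, e2⟩ := cti_pair_inj (G := L) (fun w hw => ⟨i.2 w hw, i'.2 w hw⟩)
        (fun w hw => ⟨j.2 w hw, j'.2 w hw⟩) e
      exact ⟨Subtype.ext e1, Subtype.ext e2⟩
  have hδ : ∀ (i : Row W₁ W₂) (j : Col W₁ W₂), δ (i.1 * j.1) = δ j.1 := fun i j =>
    (hdiff _ _ fun w hw => by simp [i.2 w hw]).1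
  let d : Col W₁ W₂ → ℤ := fun j => if δ j.1 = 1 then 1 else -1
  have hd : ∀ j, (d j : ℂ) = δ j.1 := fun j => by
    rcases hsign j.1 with e | e
    · simp [d, e]
    · rw [show d j = -1 from if_neg (by rw [e]; norm_num), e]; norm_num
  have happly : ∀ (i : Row W₁ W₂) (j : Col W₁ W₂) (w : ↥(W₁ ⊔ W₂)), (w : L) ∉ W₂ →
      μ (i.1 * j.1) w = d j * ((i.1 w : ℂ) * (j.1 w : ℂ)) := fun i j w hw => by
    rw [hval _ w hw, hd, hδ]; simp
  have hone : (μ 1 = fun _ => 1) ∧ δ 1 = 1 := by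
    obtain ⟨ω, hω⟩ : ∃ ω, μ ω = fun _ => 1 := by
      by_contra hno
      push Not at hno
      obtain ⟨a, ha, ha1⟩ := W₁.bot_or_exists_ne_one.resolve_left hne₁
      have := hoth (fun _ => 1) isIrrCharacter_one (fun ω e => hno ω e.symm) ⟨a, Subgroup.mem_sup_left ha⟩
        fun e => ha1 (Subgroup.mem_bot.mp (hdisj.le ⟨ha, e⟩))
      exact one_ne_zero this
    obtain ⟨hc, rfl⟩ := hom_eq_one_of_const hdisj hne₁ (h.odd.of_dvd_nat (Subgroup.card_dvd_of_le le_sup_left))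
      (c := δ ω) (by rcases hsign ω with e | e <;> simp [e]) fun w hw => by
        have := hval ω w hw
        rw [hω] at this
        linear_combination -this
    exact ⟨hω, hc⟩
  refine ⟨fun i j => μ (i.1 * j.1), d,
    { irr := fun i j => hirr _
      inj := fun i i' j j' e => hpair i i' j j' (hinj e)
      sign := fun j => by simp only [d]; split <;> simp
      apply_off := happly
      other := fun θ hθ hne => hoth θ hθ fun ω e => by
        obtain ⟨i, j, rfl⟩ := exists_row_col hdisj hcomm ω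
        exact hne i j e
      deg := fun i j => by
        obtain ⟨n, hn⟩ := hdeg (i.1 * j.1)
        exact ⟨n, by rw [hd, ← hδ i j]; exact hn⟩
      delta_zero := if_pos (by simpa [col0] using hone.2)
      map_one := by
        exact (congrArg μ (cti_one_mul _)).trans hone.1
      eq_on := fun i i' j x hx => ?_ }⟩
  have hagree : ∀ w : ↥(W₁ ⊔ W₂), (w : L) ∈ W₂ → (i.1 * j.1) w = (i'.1 * j.1) w := fun w hw => by
    simp [i.2 w hw, i'.2 w hw]
  obtain ⟨-, hind⟩ := hdiff _ _ hagree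
  have h0 : indFun (W₁ ⊔ W₂) (fun w => ((i.1 * j.1) w : ℂ) - ((i'.1 * j.1) w : ℂ)) x = 0 := by
    refine mul_eq_zero_of_right _ (Finset.sum_eq_zero fun y _ => ?_)
    by_cases hy : y⁻¹ * x * y ∈ W₁ ⊔ W₂
    · rw [extendByZero_of_mem _ _ hy, hagree ⟨_, hy⟩
        (h.inter hy (by simpa using h.normal.conj_mem x hx y⁻¹) hcomm hdisj), sub_self]
    · exact extendByZero_of_notMem _ _ hy
  rw [hind] at h0
  rcases hsign (i.1 * j.1) with e | e <;> simp [e, sub_eq_zero] at h0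
  · exact h0
  · exact h0.symm

/-- The restriction of a column of the grid to `K`. -/
noncomputable def thetaOf (K : Subgroup L) (μ : Row W₁ W₂ → Col W₁ W₂ → L → ℂ) (j : Col W₁ W₂) : K → ℂ :=
  fun k => μ (row0 W₁ W₂) j k

section Theta

variable [Fintype L] [Fintype (Row W₁ W₂)] {μ : Row W₁ W₂ → Col W₁ W₂ → L → ℂ} {δ : Col W₁ W₂ → ℤ}

theorem IsMuFamily.sum_eq_zero (hμ : IsMuFamily K W₁ W₂ μ δ) (h : PrimeCompl K W₁ W₂) (j : Col W₁ W₂) {x : L}
    (hx : x ∉ K) : ∑ i, μ i j x = 0 := by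
  classical
  haveI : Fintype ↥(W₁ ⊔ W₂) := Fintype.ofFinite _
  obtain ⟨y, w, hw, hw2, rfl⟩ := h.exists_conj hx
  rw [Finset.sum_congr rfl fun i _ => ((hμ.irr i j).isClassFunction w y).trans (hμ.apply_off i j ⟨w, hw⟩ hw2)]
  obtain ⟨-, -, hdisj, hcomm, -, -⟩ := id h.selfNormalizing
  obtain ⟨p, q, hp, hq, hpq, hp1, hq2⟩ := cti_exists_proj hdisj hcomm
  obtain ⟨i₁, hi₁⟩ : ∃ i₁ : Row W₁ W₂, i₁.1 ⟨w, hw⟩ ≠ 1 := by
    have hp0 : (p ⟨w, hw⟩ : L) ≠ 1 := fun e => hw2 (by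
      have := congrArg Subtype.val (hpq ⟨w, hw⟩)
      rw [Subgroup.coe_mul, e, one_mul] at this
      exact Eq.mp (congrArg (· ∈ W₂) this) (hq _))
    obtain ⟨l, hl⟩ := Cfsg.Agent.S1511.exists_linear_ne_one (sup_comm_of h.selfNormalizing.2.2.2.2.1)
      (x := p ⟨w, hw⟩) fun e => hp0 (congrArg Subtype.val e)
    exact ⟨⟨l.comp p, fun v hv => by rw [MonoidHom.comp_apply, (hq2 v hv).1, _root_.map_one]⟩, hl⟩
  let f : Row W₁ W₂ → Row W₁ W₂ := fun i => ⟨i₁.1 * i.1, fun v hv => by simp [i₁.2 v hv, i.2 v hv]⟩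
  have hf : Function.Bijective f := by
    refine Finite.injective_iff_bijective.mp fun a b e => Subtype.ext (MonoidHom.ext fun v => ?_)
    have := DFunLike.congr_fun (congrArg Subtype.val e) v
    simpa [f] using this
  have hsum : (∑ i : Row W₁ W₂, (i.1 ⟨w, hw⟩ : ℂ)) = 0 := by
    have e : (∑ i : Row W₁ W₂, ((f i).1 ⟨w, hw⟩ : ℂ)) = ∑ i : Row W₁ W₂, (i.1 ⟨w, hw⟩ : ℂ) :=
      hf.sum_comp (fun i : Row W₁ W₂ => (i.1 ⟨w, hw⟩ : ℂ))
    simp only [f, MonoidHom.mul_apply, Units.val_mul, ← Finset.mul_sum] at e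
    by_contra hne
    exact hi₁ (Units.ext (mul_right_cancel₀ hne (e.trans (one_mul _).symm)))
  rw [← Finset.mul_sum, ← Finset.sum_mul, hsum, zero_mul, mul_zero]

theorem IsMuFamily.thetaOf_irr (hμ : IsMuFamily K W₁ W₂ μ δ) (h : PrimeCompl K W₁ W₂) (j : Col W₁ W₂)
    [Fintype K] : IsIrrCharacter K (thetaOf K μ j) ∧ indFun K (thetaOf K μ j) = ∑ i, μ i j := by
  classical
  haveI := h.normal
  set θ := thetaOf K μ j
  have hres : ∀ i, (fun k : K => μ i j k) = θ := fun i => funext fun k => hμ.eq_on i _ j k k.2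
  have hθc : IsCharacter K θ := (hμ.irr (row0 W₁ W₂) j).isCharacter.comp K.subtype
  have hq : Fintype.card (Row W₁ W₂) = K.index := by
    rw [← Nat.card_eq_fintype_card, card_row h.selfNormalizing, h.index_eq.1]
  have hind : indFun K θ = ∑ i, μ i j := by
    funext x
    rw [Finset.sum_apply]
    by_cases hx : x ∈ K
    · rw [Finset.sum_congr rfl fun i _ => hμ.eq_on i (row0 W₁ W₂) j x hx, Finset.sum_const, Finset.card_univ,
        nsmul_eq_mul, hq]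
      show (Nat.card K : ℂ)⁻¹ * ∑ y : L, extendByZero K θ (y⁻¹ * x * y) = _
      rw [Finset.sum_congr rfl fun y _ => ((extendByZero_of_mem K θ
          (by simpa using h.normal.conj_mem x hx y⁻¹)).trans
        (show μ _ j (y⁻¹ * x * y) = μ (row0 W₁ W₂) j x by
          simpa using (hμ.irr (row0 W₁ W₂) j).isClassFunction x y⁻¹)),
        Finset.sum_const, Finset.card_univ, nsmul_eq_mul, ← mul_assoc, ← Nat.card_eq_fintype_card,
        card_inv_mul_card]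
    · rw [hμ.sum_eq_zero h j hx]
      refine mul_eq_zero_of_right _ (Finset.sum_eq_zero fun y _ => extendByZero_of_notMem _ _ fun hy => hx ?_)
      simpa [mul_assoc] using h.normal.conj_mem _ hy y
  refine ⟨isIrrCharacter_of_norm_one hθc ?_, hind⟩
  have e1 : classInner (indFun K θ) (μ (row0 W₁ W₂) j) = classInner θ θ :=
    classInner_indFun K θ (hμ.irr (row0 W₁ W₂) j).isClassFunction
  rw [← e1, hind, classInner_sum_left, Finset.sum_eq_single (row0 W₁ W₂)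
    (fun i _ hi => classInner_irr_ne (hμ.irr i j) (hμ.irr _ j) fun e => hi (hμ.inj _ _ _ _ e).1)
    (fun hn => absurd (Finset.mem_univ _) hn)]
  exact classInner_irr_self (hμ.irr _ j)

theorem IsMuFamily.thetaOf_injective (hμ : IsMuFamily K W₁ W₂ μ δ) (h : PrimeCompl K W₁ W₂) [Fintype K] :
    Function.Injective (thetaOf K μ) := by
  classical
  intro j j' e
  by_contra hne
  have e2 : classInner (indFun K (thetaOf K μ j)) (μ (row0 W₁ W₂) j') = 1 := by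
    rw [e, (hμ.thetaOf_irr h j').2, classInner_sum_left, Finset.sum_eq_single (row0 W₁ W₂)
      (fun i _ hi => classInner_irr_ne (hμ.irr i j') (hμ.irr _ j') fun e => hi (hμ.inj _ _ _ _ e).1)
      (fun hn => absurd (Finset.mem_univ _) hn)]
    exact classInner_irr_self (hμ.irr _ j')
  rw [(hμ.thetaOf_irr h j).2, classInner_sum_left, Finset.sum_eq_zero fun i _ =>
    classInner_irr_ne (hμ.irr i j) (hμ.irr _ j') fun e => hne (hμ.inj _ _ _ _ e).2] at e2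
  exact zero_ne_one e2

/-- An irreducible character of `K` is a column or induces to an irreducible character. -/
theorem IsMuFamily.thetaOf_cases (hμ : IsMuFamily K W₁ W₂ μ δ) (h : PrimeCompl K W₁ W₂) [Fintype K]
    {θ : K → ℂ} (hθ : IsIrrCharacter K θ) :
    (∃ j, θ = thetaOf K μ j) ∨ IsIrrCharacter L (indFun K θ) := by
  classical
  haveI := h.normal
  obtain ⟨h1, h2, -⟩ := Cfsg.Agent.S1513.result K W₁ W₂ h.disj h.sup h.ne₁ h.cyclic₁ h.hall h.ne₂ h.cyclic₂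
    h.le h.cent h.odd
  by_cases hinv : ∃ x ∈ W₁, (fun k : K => θ ⟨x * k * x⁻¹, h.normal.conj_mem (k : L) k.2 x⟩) ≠ θ
  · exact Or.inr (h1 θ hθ hinv)
  push Not at hinv
  haveI : Finite (Col W₁ W₂) := by
    haveI := finite_hom h.selfNormalizing.2.2.2.2.1
    infer_instance
  have hT : ∀ j, ∀ x ∈ W₁,
      (fun k : K => thetaOf K μ j ⟨x * k * x⁻¹, h.normal.conj_mem (k : L) k.2 x⟩) = thetaOf K μ j :=
    fun j x _ => funext fun k => (hμ.irr _ j).isClassFunction k x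
  let F : Col W₁ W₂ → {θ : IrrCharacter K // ∀ x ∈ W₁,
      (fun k : K => (θ : K → ℂ) ⟨x * k * x⁻¹, h.normal.conj_mem (k : L) k.2 x⟩) = θ} :=
    fun j => ⟨⟨thetaOf K μ j, (hμ.thetaOf_irr h j).1⟩, hT j⟩
  obtain ⟨j, hj⟩ := ((Nat.bijective_iff_injective_and_card F).mpr
    ⟨fun a b e => hμ.thetaOf_injective h (congrArg (fun t => (t.1 : K → ℂ)) e),
      (card_col h.selfNormalizing).trans h2.symm⟩).2 ⟨⟨θ, hθ⟩, hinv⟩
  exact Or.inl ⟨j, (congrArg (fun t => (t.1 : K → ℂ)) hj).symm⟩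

theorem IsMuFamily.thetaOf_one (hμ : IsMuFamily K W₁ W₂ μ δ) : thetaOf K μ (col0 W₁ W₂) = fun _ => 1 :=
  funext fun k => by simp [thetaOf, hμ.map_one]

end Theta

end Cfsg.Lib.Char.FT
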