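import Cfsg.Agent.Lib.Char.FT.Eta
import Cfsg.Agent.Lib.Char.Galois
import Cfsg.Agent.Lib.Char.Dade

/-!
Power twists (Galois conjugation) of the cyclic TI family and of Dade images.
-/

set_option autoImplicit false
set_option linter.unusedSectionVars false
set_option linter.style.haveILetI false

namespace Cfsg.Lib.Char.FT

open Cfsg Cfsg.Lib.Char
open scoped ComplexConjugate

universe u

variable {G : Type u} [Group G]

/-- The power twist of a function on a group. -/
def twist {X : Type*} [Monoid X] (k : ℕ) (f : X → ℂ) : X → ℂ := fun g => f (g ^ k)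

theorem twist_add {X : Type*} [Monoid X] (k : ℕ) (f h : X → ℂ) : twist k (f + h) = twist k f + twist k h := rfl

theorem twist_sub {X : Type*} [Monoid X] (k : ℕ) (f h : X → ℂ) : twist k (f - h) = twist k f - twist k h := rfl

theorem twist_smul {X : Type*} [Monoid X] (k : ℕ) (c : ℂ) (f : X → ℂ) : twist k (c • f) = c • twist k f := rfl

theorem twist_sum {X : Type*} [Monoid X] {ι : Type*} (s : Finset ι) (k : ℕ) (f : ι → X → ℂ) :
    twist k (∑ i ∈ s, f i) = ∑ i ∈ s, twist k (f i) := by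
  funext g
  simp [twist, Finset.sum_apply]

/-- Twisting preserves inner products. -/
theorem classInner_twist [Fintype G] {k : ℕ} (hk : k.Coprime (Nat.card G)) (f h : G → ℂ) :
    classInner (twist k f) (twist k h) = classInner f h := by
  unfold classInner twist
  congr 1
  exact Fintype.sum_bijective (fun g => g ^ k) (powBij_of_coprime hk) _ _ fun g => rfl

/-- Galois conjugation of a Dade image. -/
theorem twist_dadeIsometry [Finite G] {A : Set G} {L : Subgroup G} {H : G → Subgroup G} {α : L → ℂ}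
    (hα : IsGeneralizedCharacter L α) (hτ : IsGeneralizedCharacter G (dadeIsometry A L H α)) {k : ℕ}
    (hk : k.Coprime (Nat.card G)) : twist k (dadeIsometry A L H α) = dadeIsometry A L H (twist k α) := by
  classical
  haveI : NeZero (Nat.card G) := ⟨Nat.card_pos.ne'⟩
  obtain ⟨σ, hσ⟩ := exists_of_coprime hk
  obtain ⟨χ, ψ, hχ, hψ, e⟩ := hτ
  obtain ⟨χ', ψ', hχ', hψ', e'⟩ := hα
  funext g
  have hL : Nat.card L ∣ Nat.card G := L.card_subgroup_dvd_card
  have key : ∀ v : cycField (Nat.card G), (v : ℂ) = dadeIsometry A L H α g →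
      twist k (dadeIsometry A L H α) g = σ v := by
    intro v hv
    have hv' : v = charVal dvd_rfl hχ g - charVal dvd_rfl hψ g := Subtype.ext (by
      rw [hv, e]
      rfl)
    rw [hv', map_sub, galois_charVal dvd_rfl hσ, galois_charVal dvd_rfl hσ, twist, e]
    rfl
  by_cases hg : ∃ a : L, (a : G) ∈ A ∧ ∃ x : G, ∃ u ∈ H (a : G), x * g * x⁻¹ = (a : G) * u
  · rw [key (charVal hL hχ' (Classical.choose hg) - charVal hL hψ' (Classical.choose hg)) (by
      rw [dadeIsometry, dif_pos hg, e']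
      rfl), map_sub, galois_charVal hL hσ, galois_charVal hL hσ, dadeIsometry, dif_pos hg, twist, e']
    rfl
  · rw [key 0 (by rw [dadeIsometry, dif_neg hg]; rfl), map_zero, dadeIsometry, dif_neg hg]

/-- An exponent prime to `n` with prescribed residues. -/
theorem exists_coprime_crt {a b c d n : ℕ} (hab : a.Coprime b) (hn : n ≠ 0)
    (hc : c.Coprime a) (hd : d.Coprime b) :
    ∃ k : ℕ, k.Coprime n ∧ k ≡ c [MOD a] ∧ k ≡ d [MOD b] := by
  obtain ⟨r, hr1, hr2⟩ := Nat.chineseRemainder hab c d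
  have hr : r.Coprime (a * b) := by
    refine Nat.Coprime.mul_right ?_ ?_
    · rw [Nat.Coprime, Nat.gcd_comm, Nat.gcd_rec, hr1, ← Nat.gcd_rec, Nat.gcd_comm]; exact hc
    · rw [Nat.Coprime, Nat.gcd_comm, Nat.gcd_rec, hr2, ← Nat.gcd_rec, Nat.gcd_comm]; exact hd
  let J := ∏ s ∈ n.primeFactors.filter (fun s => ¬ s ∣ r), s
  refine ⟨r + J * (a * b), ?_, ?_, ?_⟩
  · refine Nat.coprime_of_dvd fun s hs hs1 hs2 => ?_
    have hsF : s ∈ n.primeFactors := Nat.mem_primeFactors.mpr ⟨hs, hs2, hn⟩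
    by_cases hsr : s ∣ r
    · rcases hs.dvd_mul.mp ((Nat.dvd_add_right hsr).mp hs1) with h | h
      · obtain ⟨t, ht, hst⟩ := (Prime.dvd_finsetProd_iff hs.prime _).mp h
        have ht' := Finset.mem_filter.mp ht
        rw [(Nat.prime_dvd_prime_iff_eq hs (Nat.prime_of_mem_primeFactors ht'.1)).mp hst] at hsr
        exact ht'.2 hsr
      · exact hs.not_dvd_one (hr ▸ Nat.dvd_gcd hsr h)
    · have hJ : s ∣ J := Finset.dvd_prod_of_mem (fun s => s) (Finset.mem_filter.mpr ⟨hsF, hsr⟩)
      exact hsr ((Nat.dvd_add_left (hJ.mul_right _)).mp hs1)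
  · refine Nat.ModEq.trans ?_ hr1
    show _ % a = _ % a
    rw [show J * (a * b) = (J * b) * a by ring, Nat.add_mul_mod_self_right]
  · refine Nat.ModEq.trans ?_ hr2
    show _ % b = _ % b
    rw [show J * (a * b) = (J * a) * b by ring, Nat.add_mul_mod_self_right]

variable {W₁ W₂ : Subgroup G}

/-- Galois conjugation permutes the cyclic TI family. -/
theorem twist_family [Fintype G] (hodd : Odd (Nat.card G)) (hW : IsSelfNormalizingCyclic W₁ W₂)
    {χ : (↥(W₁ ⊔ W₂) →* ℂˣ) → (G → ℂ)} (hχ : IsCyclicTIFamily W₁ W₂ χ) {k : ℕ}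
    (hk : k.Coprime (Nat.card G)) (ω : ↥(W₁ ⊔ W₂) →* ℂˣ) : twist k (χ ω) = χ (ω ^ k) := by
  classical
  set f : G → ℂ := twist k (χ ω) with hf
  have hirr : IsIrrCharacter G f ∨ IsIrrCharacter G (-f) := by
    rcases hχ.irr_or_neg ω with h | h
    · exact Or.inl (isIrrCharacter_comp_pow hk h)
    · exact Or.inr (by have h' := isIrrCharacter_comp_pow hk h; exact h')
  have hval : ∀ w : ↥(W₁ ⊔ W₂), (w : G) ∉ W₁ → (w : G) ∉ W₂ → f w = χ (ω ^ k) w := by
    intro w h1 h2
    have hkw : k.Coprime (orderOf (w : G)) := hk.coprime_dvd_right (orderOf_dvd_natCard _)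
    have hmem : ∀ H : Subgroup G, (w : G) ^ k ∈ H → (w : G) ∈ H := fun H h => by
      obtain ⟨m, hm⟩ := exists_pow_eq_self_of_coprime hkw
      exact hm ▸ H.pow_mem h m
    have e := hχ.eq_on ω (w ^ k) (fun h => h1 (hmem W₁ (by simpa using h)))
      (fun h => h2 (hmem W₂ (by simpa using h)))
    rw [hf, twist, hχ.eq_on (ω ^ k) w h1 h2]
    simpa [MonoidHom.pow_apply, map_pow] using e
  have hgen : ∀ {F : G → ℂ}, IsIrrCharacter G F ∨ IsIrrCharacter G (-F) →
      IsGeneralizedCharacter G F ∧ IsClassFunction G F ∧ classInner F F = 1 := by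
    rintro F (h | h)
    · exact ⟨h.isCharacter.isGeneralized, h.isClassFunction, classInner_irr_self h⟩
    · refine ⟨by simpa using h.isCharacter.isGeneralized.neg, fun a b => by simpa using h.isClassFunction a b,
        by simpa [classInner_neg_left, classInner_neg_right] using classInner_irr_self h⟩
  obtain ⟨g1, c1, n1⟩ := hgen hirr
  obtain ⟨g2, c2, n2⟩ := hgen (hχ.irr_or_neg (ω ^ k))
  by_contra hne
  -- distinct members agreeing on `V` would have to be orthogonal to the family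
  rcases eq_or_ne (classInner f (χ (ω ^ k))) 0 with h0 | h0
  · haveI := finite_hom (G := G) hW.2.2.2.2.1
    haveI : Fintype ↥(W₁ ⊔ W₂) := Fintype.ofFinite _
    obtain ⟨p, q, -, -, hpq, hp1, hq2⟩ := cti_exists_proj hW.2.2.1 hW.2.2.2.1
    let i : Row W₁ W₂ := ⟨(ω ^ k).comp p, fun w hw => by rw [MonoidHom.comp_apply, (hq2 w hw).1, map_one]⟩
    let j : Col W₁ W₂ := ⟨(ω ^ k).comp q, fun w hw => by rw [MonoidHom.comp_apply, (hp1 w hw).2, map_one]⟩
    have heta : eta χ i j = χ (ω ^ k) := by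
      rw [eta]
      congr 1
      ext x
      show (((ω ^ k) (p x) * (ω ^ k) (q x) : ℂˣ) : ℂ) = _
      rw [← map_mul, hpq]
    have h1 := orth_constituent hodd hW hχ g2 g1 c2 c1 n2 n1 (classInner_symm_zero h0)
      (hχ.irr_or_neg _) (fun w a b => (hval w a b).symm) i j
    rw [heta, n2] at h1
    exact one_ne_zero h1
  · -- proportional, hence equal by the values on `V`
    obtain ⟨s, hs⟩ : ∃ s : ℂ, f = s • χ (ω ^ k) := by
      rcases hirr with h | h <;> rcases hχ.irr_or_neg (ω ^ k) with h' | h'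
      · exact ⟨1, by rw [one_smul]; exact by_contra fun e => h0 (classInner_irr_ne h h' e)⟩
      · refine ⟨-1, by_contra fun e => h0 ?_⟩
        rw [neg_one_smul] at e
        simpa [classInner_neg_right] using classInner_irr_ne h h' e
      · refine ⟨-1, by_contra fun e => h0 ?_⟩
        rw [neg_one_smul] at e
        simpa [classInner_neg_left] using classInner_irr_ne h h' fun e' => e (neg_eq_iff_eq_neg.1 e')
      · refine ⟨1, by_contra fun e => h0 ?_⟩
        rw [one_smul] at e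
        simpa [classInner_neg_left, classInner_neg_right] using
          classInner_irr_ne h h' fun e' => e (neg_injective e')
    obtain ⟨a, ha, ha1⟩ := (Subgroup.bot_or_exists_ne_one W₁).resolve_left hW.1
    obtain ⟨b, hb, hb1⟩ := (Subgroup.bot_or_exists_ne_one W₂).resolve_left hW.2.1
    let w : ↥(W₁ ⊔ W₂) := ⟨a * b, Subgroup.mul_mem _ (Subgroup.mem_sup_left ha) (Subgroup.mem_sup_right hb)⟩
    have hw1 : (w : G) ∉ W₁ := fun h => hb1 (Subgroup.mem_bot.1
      (hW.2.2.1 ▸ ⟨(Subgroup.mul_mem_cancel_left W₁ ha).1 h, hb⟩))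
    have hw2 : (w : G) ∉ W₂ := fun h => ha1 (Subgroup.mem_bot.1
      (hW.2.2.1 ▸ ⟨ha, (Subgroup.mul_mem_cancel_right W₂ hb).1 h⟩))
    have hv := hval w hw1 hw2
    rw [hs, Pi.smul_apply, smul_eq_mul, hχ.eq_on _ w hw1 hw2] at hv
    have : s = 1 := mul_right_cancel₀ (Units.ne_zero _) (hv.trans (one_mul _).symm)
    rw [this, one_smul] at hs
    exact hne hs

/-- Galois conjugation of a member. -/
theorem twist_eta [Fintype G] (hodd : Odd (Nat.card G)) (hW : IsSelfNormalizingCyclic W₁ W₂)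
    {χ : (↥(W₁ ⊔ W₂) →* ℂˣ) → (G → ℂ)} (hχ : IsCyclicTIFamily W₁ W₂ χ) {k : ℕ}
    (hk : k.Coprime (Nat.card G)) (i : Row W₁ W₂) (j : Col W₁ W₂) :
    twist k (eta χ i j) = eta χ ⟨i.1 ^ k, fun w hw => by simp [i.2 w hw]⟩
      ⟨j.1 ^ k, fun w hw => by simp [j.2 w hw]⟩ := by
  rw [eta, eta, twist_family hodd hW hχ hk]
  congr 1
  ext x
  simp [MonoidHom.pow_apply, mul_pow]

end Cfsg.Lib.Char.FT
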