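import Cfsg.Agent.Lib.Char.FT.Mu
import Cfsg.Agent.Lib.Char.FT.Twist
import Cfsg.Agent.Lib.Local.Sigma.DadeSets
import Cfsg.Agent.Lib.Local.Uniq.Basic

/-!
Peterfalvi (4.2)-(4.5) for a maximal subgroup of type P, indexed by the rows and columns of `W` in `G`.
-/

set_option autoImplicit false
set_option linter.unusedSectionVars false
set_option linter.style.haveILetI false

namespace Cfsg.Lib.Char.FT

open Cfsg Cfsg.Lib.Char Cfsg.Lib.Local.Sigma
open scoped commutatorElement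

universe u

variable {G : Type u} [Group G] [Finite G] {M W₁ W₂ U : Subgroup G}

/-- `M'` inside `M`. -/
def derivedIn (M : Subgroup G) : Subgroup M := (⁅M, M⁆).subgroupOf M

theorem mem_derivedIn {M : Subgroup G} {x : M} : x ∈ derivedIn M ↔ (x : G) ∈ ⁅M, M⁆ := Subgroup.mem_subgroupOf

theorem sup_le_of_typeP (hP : Cfsg.IsTypePWith M W₁ U W₂) : W₁ ⊔ W₂ ≤ M :=
  sup_le hP.W₁_compl.2.1 ((hP.W₂_le.trans inf_le_left).trans fittingHallOf_le_self)

theorem W₂_le_derived (hP : Cfsg.IsTypePWith M W₁ U W₂) : W₂ ≤ ⁅M, M⁆ := fun z hz => by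
  obtain ⟨x, hx, hx1⟩ := W₁.bot_or_exists_ne_one.resolve_left hP.W₁_ne
  exact ((hP.W₂_centralizer x hx hx1).ge hz).1

theorem mem_sup_subgroupOf (hP : Cfsg.IsTypePWith M W₁ U W₂) {x : M} :
    x ∈ W₁.subgroupOf M ⊔ W₂.subgroupOf M ↔ (x : G) ∈ W₁ ⊔ W₂ := by
  rw [← Subgroup.subgroupOf_sup hP.W₁_compl.2.1 (le_trans le_sup_right (sup_le_of_typeP hP)), Subgroup.mem_subgroupOf]

theorem normal_derivedIn (M : Subgroup G) : (derivedIn M).Normal := by
  refine ⟨fun n hn g => ?_⟩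
  rw [mem_derivedIn] at hn ⊢
  exact (Subgroup.mem_normalizer_iff.mp
    ((Subgroup.le_normalizer.trans (Cfsg.Lib.Local.FreeAction.normalizer_le_normalizer_commutator M)) g.2) _).mp hn

/-- The hypotheses (4.2) inside `M`. -/
theorem primeCompl (hG : Cfsg.IsMinSimpleOddOrder G) (hP : Cfsg.IsTypePWith M W₁ U W₂) :
    PrimeCompl (derivedIn M) (W₁.subgroupOf M) (W₂.subgroupOf M) := by
  obtain ⟨hne₁, hne₂, -, -, hcyc, -⟩ := hP.selfNormalizing
  have h₁M : W₁ ≤ M := hP.W₁_compl.2.1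
  have h₂M : W₂ ≤ M := le_trans le_sup_right (sup_le_of_typeP hP)
  haveI := normal_derivedIn M
  refine ⟨normal_derivedIn M, ?_, ?_, ?_, ?_, ?_, ?_, ?_, ?_, ?_, ?_⟩
  · refine eq_bot_iff.mpr fun x hx => Subgroup.mem_bot.mpr (Subtype.ext ?_)
    exact Subgroup.mem_bot.mp (hP.W₁_compl.2.2.1.le ⟨hx.1, hx.2⟩)
  · refine eq_top_iff.mpr fun x _ => ?_
    obtain ⟨a, ha, b, hb, he⟩ := hP.W₁_compl.2.2.2 x x.2
    have hax : a ∈ M := hP.W₁_compl.1 ha
    rw [show x = (⟨a, hax⟩ : M) * ⟨b, h₁M hb⟩ from Subtype.ext he]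
    exact mul_mem (Subgroup.mem_sup_left ha) (Subgroup.mem_sup_right hb)
  · exact fun e => hne₁ (eq_bot_iff.mpr fun x hx => Subgroup.mem_bot.mpr (congrArg Subtype.val
      (Subgroup.mem_bot.mp (e.le (show (⟨x, h₁M hx⟩ : M) ∈ W₁.subgroupOf M from hx)))))
  · haveI := hP.W₁_cyclic
    exact (Subgroup.subgroupOfEquivOfLe h₁M).isCyclic.mpr inferInstance
  · rw [Nat.card_congr (Subgroup.subgroupOfEquivOfLe h₁M).toEquiv]
    exact hP.W₁_hall
  · exact fun e => hne₂ (eq_bot_iff.mpr fun x hx => Subgroup.mem_bot.mpr (congrArg Subtype.val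
      (Subgroup.mem_bot.mp (e.le (show (⟨x, h₂M hx⟩ : M) ∈ W₂.subgroupOf M from hx)))))
  · haveI := hcyc
    haveI : IsCyclic ↥W₂ := isCyclic_of_injective _ (Subgroup.inclusion_injective (le_sup_right (a := W₁) (b := W₂)))
    exact (Subgroup.subgroupOfEquivOfLe h₂M).isCyclic.mpr inferInstance
  · exact fun x hx => W₂_le_derived hP hx
  · intro x hx hx1
    ext y
    rw [Subgroup.mem_inf, Subgroup.mem_centralizer_singleton_iff, mem_derivedIn, Subgroup.mem_subgroupOf,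
      ← hP.W₂_centralizer x hx fun e => hx1 (Subtype.ext e), Subgroup.mem_inf,
      Subgroup.mem_centralizer_singleton_iff]
    exact and_congr_right fun _ => ⟨fun h => congrArg Subtype.val h, fun h => Subtype.ext h⟩
  · have hle := sup_le_of_typeP hP
    rw [← Subgroup.subgroupOf_sup h₁M h₂M, Nat.card_congr (Subgroup.subgroupOfEquivOfLe hle).toEquiv]
    exact Cfsg.Lib.Local.Uniq.odd_subgroup hG _

/-- `W` in `M` to `W` in `G`. -/
def wDown (hP : Cfsg.IsTypePWith M W₁ U W₂) : ↥(W₁ ⊔ W₂) →* ↥(W₁.subgroupOf M ⊔ W₂.subgroupOf M) where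
  toFun w := ⟨⟨w, sup_le_of_typeP hP w.2⟩, (mem_sup_subgroupOf hP).mpr w.2⟩
  map_one' := rfl
  map_mul' _ _ := rfl

theorem wDown_bijective (hP : Cfsg.IsTypePWith M W₁ U W₂) : Function.Bijective (wDown hP) :=
  ⟨fun _ _ e => Subtype.ext (congrArg (fun z => ((z.1 : M) : G)) e),
    fun x => ⟨⟨((x : M) : G), (mem_sup_subgroupOf hP).mp x.2⟩, rfl⟩⟩

/-- A row of `W` in `G` as a row of `W` in `M`. -/
noncomputable def rowDown (hP : Cfsg.IsTypePWith M W₁ U W₂) (i : Row W₁ W₂) :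
    Row (W₁.subgroupOf M) (W₂.subgroupOf M) :=
  ⟨i.1.comp (MulEquiv.ofBijective _ (wDown_bijective hP)).symm.toMonoidHom, fun w hw => by
    obtain ⟨v, rfl⟩ := (wDown_bijective hP).2 w
    exact (congrArg i.1 ((MulEquiv.ofBijective _ (wDown_bijective hP)).symm_apply_apply v)).trans (i.2 v hw)⟩

/-- A column of `W` in `G` as a column of `W` in `M`. -/
noncomputable def colDown (hP : Cfsg.IsTypePWith M W₁ U W₂) (j : Col W₁ W₂) :
    Col (W₁.subgroupOf M) (W₂.subgroupOf M) :=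
  ⟨j.1.comp (MulEquiv.ofBijective _ (wDown_bijective hP)).symm.toMonoidHom, fun w hw => by
    obtain ⟨v, rfl⟩ := (wDown_bijective hP).2 w
    exact (congrArg j.1 ((MulEquiv.ofBijective _ (wDown_bijective hP)).symm_apply_apply v)).trans (j.2 v hw)⟩

theorem rowDown_apply (hP : Cfsg.IsTypePWith M W₁ U W₂) (i : Row W₁ W₂) (v : ↥(W₁ ⊔ W₂)) :
    (rowDown hP i).1 (wDown hP v) = i.1 v :=
  congrArg i.1 ((MulEquiv.ofBijective _ (wDown_bijective hP)).symm_apply_apply v)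

theorem colDown_apply (hP : Cfsg.IsTypePWith M W₁ U W₂) (j : Col W₁ W₂) (v : ↥(W₁ ⊔ W₂)) :
    (colDown hP j).1 (wDown hP v) = j.1 v :=
  congrArg j.1 ((MulEquiv.ofBijective _ (wDown_bijective hP)).symm_apply_apply v)

theorem rowDown_bijective (hP : Cfsg.IsTypePWith M W₁ U W₂) : Function.Bijective (rowDown hP) :=
  ⟨fun a b e => Subtype.ext (MonoidHom.ext fun v => by rw [← rowDown_apply hP a, e, rowDown_apply]),
    fun r => ⟨⟨r.1.comp (wDown hP), fun w hw => r.2 _ hw⟩, Subtype.ext (MonoidHom.ext fun v => by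
      obtain ⟨v, rfl⟩ := (wDown_bijective hP).2 v
      exact rowDown_apply hP _ v)⟩⟩

theorem colDown_bijective (hP : Cfsg.IsTypePWith M W₁ U W₂) : Function.Bijective (colDown hP) :=
  ⟨fun a b e => Subtype.ext (MonoidHom.ext fun v => by rw [← colDown_apply hP a, e, colDown_apply]),
    fun r => ⟨⟨r.1.comp (wDown hP), fun w hw => r.2 _ hw⟩, Subtype.ext (MonoidHom.ext fun v => by
      obtain ⟨v, rfl⟩ := (wDown_bijective hP).2 v
      exact colDown_apply hP _ v)⟩⟩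

/-- The column character of `M'`. -/
noncomputable def colTheta (M : Subgroup G) (μ : Row W₁ W₂ → Col W₁ W₂ → M → ℂ) (j : Col W₁ W₂) :
    derivedIn M → ℂ := fun k => μ (row0 W₁ W₂) j k

/-- The grid of `M` with its signs. -/
structure IsGrid (M W₁ W₂ : Subgroup G) [Fintype M] [Fintype (Row W₁ W₂)]
    (μ : Row W₁ W₂ → Col W₁ W₂ → M → ℂ) (δ : Col W₁ W₂ → ℤ) : Prop where
  irr : ∀ i j, IsIrrCharacter M (μ i j)
  inj : ∀ i i' j j', μ i j = μ i' j' → i = i' ∧ j = j'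
  sign : ∀ j, δ j = 1 ∨ δ j = -1
  apply_off : ∀ i j (w : M) (hw : (w : G) ∈ W₁ ⊔ W₂), (w : G) ∉ W₂ →
    μ i j w = δ j * ((i.1 ⟨w, hw⟩ : ℂ) * (j.1 ⟨w, hw⟩ : ℂ))
  other : ∀ χ : M → ℂ, IsIrrCharacter M χ → (∀ i j, χ ≠ μ i j) →
    ∀ w : M, (w : G) ∈ W₁ ⊔ W₂ → (w : G) ∉ W₂ → χ w = 0
  deg : ∀ i j, ∃ n : ℤ, μ i j 1 - δ j = n * (Nat.card W₁ : ℂ)
  delta_zero : δ (col0 W₁ W₂) = 1
  map_one : μ (row0 W₁ W₂) (col0 W₁ W₂) = fun _ => 1
  eq_on : ∀ i i' j, ∀ x ∈ derivedIn M, μ i j x = μ i' j x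
  sum_off : ∀ j x, x ∉ derivedIn M → ∑ i, μ i j x = 0
  conj_off : ∀ x : M, x ∉ derivedIn M → ∃ y w : M, (w : G) ∈ W₁ ⊔ W₂ ∧ (w : G) ∉ W₂ ∧ x = y * w * y⁻¹
  theta_irr : ∀ j, IsIrrCharacter (derivedIn M) (colTheta M μ j)
  theta_ind : ∀ j, indFun (derivedIn M) (colTheta M μ j) = ∑ i, μ i j
  theta_inj : Function.Injective (colTheta M μ)
  theta_cases : ∀ θ : derivedIn M → ℂ, IsIrrCharacter (derivedIn M) θ →
    (∃ j, θ = colTheta M μ j) ∨ IsIrrCharacter M (indFun (derivedIn M) θ)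

theorem exists_grid (hG : Cfsg.IsMinSimpleOddOrder G) (hP : Cfsg.IsTypePWith M W₁ U W₂) [Fintype M]
    [Fintype (Row W₁ W₂)] : ∃ (μ : Row W₁ W₂ → Col W₁ W₂ → M → ℂ) (δ : Col W₁ W₂ → ℤ), IsGrid M W₁ W₂ μ δ := by
  classical
  have h := primeCompl hG hP
  obtain ⟨μ, δ, hμ⟩ := h.exists_mu
  letI : Fintype (Row (W₁.subgroupOf M) (W₂.subgroupOf M)) := Fintype.ofBijective _ (rowDown_bijective hP)
  haveI : Fintype (derivedIn M) := Fintype.ofFinite _
  have hr0 : rowDown hP (row0 W₁ W₂) = row0 _ _ := Subtype.ext (MonoidHom.ext fun v => rfl)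
  have hc0 : colDown hP (col0 W₁ W₂) = col0 _ _ := Subtype.ext (MonoidHom.ext fun v => rfl)
  have hcard : Nat.card W₁ = Nat.card (W₁.subgroupOf M) :=
    (Nat.card_congr (Subgroup.subgroupOfEquivOfLe hP.W₁_compl.2.1).toEquiv).symm
  have hth : ∀ j, colTheta M (fun i j => μ (rowDown hP i) (colDown hP j)) j =
      thetaOf (derivedIn M) μ (colDown hP j) := fun j => funext fun k => by simp [colTheta, thetaOf, hr0]
  have hsum : ∀ j, (∑ i, μ (rowDown hP i) j) = ∑ i, μ i j := fun j => (rowDown_bijective hP).sum_comp fun i => μ i j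
  refine ⟨fun i j => μ (rowDown hP i) (colDown hP j), fun j => δ (colDown hP j),
    { irr := fun i j => hμ.irr _ _
      inj := fun i i' j j' e => ?_
      sign := fun j => hμ.sign _
      apply_off := fun i j w hw hw2 => ?_
      other := fun χ hχ hne w hw hw2 => ?_
      deg := fun i j => by rw [hcard]; exact hμ.deg _ _
      delta_zero := by rw [hc0]; exact hμ.delta_zero
      map_one := by simp only [hr0, hc0]; exact hμ.map_one
      eq_on := fun i i' j x hx => hμ.eq_on _ _ _ x hx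
      sum_off := fun j x hx => by
        have := congrFun (hsum (colDown hP j)) x
        simp only [Finset.sum_apply] at this
        rw [this]; exact hμ.sum_eq_zero h _ hx
      conj_off := fun x hx => by
        obtain ⟨y, w, hw, hw2, e⟩ := h.exists_conj hx
        exact ⟨y, w, (mem_sup_subgroupOf hP).mp hw, hw2, e⟩
      theta_irr := fun j => by rw [hth]; exact (hμ.thetaOf_irr h _).1
      theta_ind := fun j => by rw [hth, (hμ.thetaOf_irr h _).2, hsum]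
      theta_inj := fun a b e => by
        rw [hth, hth] at e
        exact (colDown_bijective hP).1 (hμ.thetaOf_injective h e)
      theta_cases := fun θ hθ => ?_ }⟩
  · obtain ⟨e1, e2⟩ := hμ.inj _ _ _ _ e
    exact ⟨(rowDown_bijective hP).1 e1, (colDown_bijective hP).1 e2⟩
  · have := hμ.apply_off (rowDown hP i) (colDown hP j) (wDown hP ⟨w, hw⟩) hw2
    rw [rowDown_apply, colDown_apply] at this
    exact this
  · refine hμ.other χ hχ (fun i j => ?_) (wDown hP ⟨w, hw⟩) hw2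
    obtain ⟨i, rfl⟩ := (rowDown_bijective hP).2 i
    obtain ⟨j, rfl⟩ := (colDown_bijective hP).2 j
    exact hne i j
  · rcases hμ.thetaOf_cases h hθ with ⟨j, rfl⟩ | hirr
    · obtain ⟨j, rfl⟩ := (colDown_bijective hP).2 j
      exact Or.inl ⟨j, (hth j).symm⟩
    · exact Or.inr hirr

variable [Fintype M] [Fintype (Row W₁ W₂)] {μ : Row W₁ W₂ → Col W₁ W₂ → M → ℂ} {δ : Col W₁ W₂ → ℤ}

/-- The values off `W₂` determine the indices and the sign. -/
theorem IsGrid.eq_of_apply (hG : Cfsg.IsMinSimpleOddOrder G) (hP : Cfsg.IsTypePWith M W₁ U W₂)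
    {i i' : Row W₁ W₂} {j j' : Col W₁ W₂} {c c' : ℤ} (hc : c = 1 ∨ c = -1) (hc' : c' = 1 ∨ c' = -1)
    (h : ∀ w : ↥(W₁ ⊔ W₂), (w : G) ∉ W₂ →
      (c : ℂ) * ((i.1 w : ℂ) * (j.1 w : ℂ)) = (c' : ℂ) * ((i'.1 w : ℂ) * (j'.1 w : ℂ))) :
    i = i' ∧ j = j' ∧ c = c' := by
  obtain ⟨hne, -, hdisj, -, -, -⟩ := hP.selfNormalizing
  obtain ⟨e1, e2⟩ := hom_eq_one_of_const (ω := (i.1 * j.1) * (i'.1 * j'.1)⁻¹) (c := (c : ℂ) * c') hdisj hne
    (Cfsg.Lib.Local.Uniq.odd_subgroup hG _) (by rcases hc with rfl | rfl <;> rcases hc' with rfl | rfl <;> norm_num)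
    fun w hw => by
      have h1 := h w hw
      have hne0 : (i'.1 w : ℂ) * (j'.1 w : ℂ) ≠ 0 := mul_ne_zero (Units.ne_zero _) (Units.ne_zero _)
      simp only [MonoidHom.mul_apply, MonoidHom.inv_apply, Units.val_mul, Units.val_inv_eq_inv_val]
      have hcc : (c' : ℂ) * c' = 1 := by rcases hc' with rfl | rfl <;> norm_num
      field_simp
      linear_combination (c' : ℂ) * h1 + ((i'.1 w : ℂ) * (j'.1 w : ℂ)) * hcc
  obtain ⟨ei, ej⟩ : i = i' ∧ j = j' := by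
    haveI : Fintype ↥(W₁ ⊔ W₂) := Fintype.ofFinite _
    haveI : Fintype G := Fintype.ofFinite _
    obtain ⟨a, b⟩ := cti_pair_inj (G := G) (fun w hw => ⟨i.2 w hw, i'.2 w hw⟩)
      (fun w hw => ⟨j.2 w hw, j'.2 w hw⟩) (mul_inv_eq_one.mp e2)
    exact ⟨Subtype.ext a, Subtype.ext b⟩
  refine ⟨ei, ej, ?_⟩
  rcases hc with rfl | rfl <;> rcases hc' with rfl | rfl <;> norm_num at e1 <;> norm_num

/-- The power of a row. -/
def rowPow (k : ℕ) (i : Row W₁ W₂) : Row W₁ W₂ := ⟨i.1 ^ k, fun w hw => by simp [i.2 w hw]⟩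

/-- The power of a column. -/
def colPow (k : ℕ) (j : Col W₁ W₂) : Col W₁ W₂ := ⟨j.1 ^ k, fun w hw => by simp [j.2 w hw]⟩

/-- Galois conjugation permutes the grid. -/
theorem IsGrid.twist_mu (hμ : IsGrid M W₁ W₂ μ δ) (hG : Cfsg.IsMinSimpleOddOrder G)
    (hP : Cfsg.IsTypePWith M W₁ U W₂) {k : ℕ} (hk : k.Coprime (Nat.card G)) (i : Row W₁ W₂) (j : Col W₁ W₂) :
    twist k (μ i j) = μ (rowPow k i) (colPow k j) ∧ δ (colPow k j) = δ j := by
  classical
  have hkM : k.Coprime (Nat.card M) := hk.coprime_dvd_right M.card_subgroup_dvd_card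
  have hirr : IsIrrCharacter M (twist k (μ i j)) := isIrrCharacter_comp_pow hkM (hμ.irr i j)
  have hout : ∀ w : M, (w : G) ∉ W₂ → ((w ^ k : M) : G) ∉ W₂ := fun w h h' => h (by
    obtain ⟨m, hm⟩ := exists_pow_eq_self_of_coprime (hk.coprime_dvd_right (orderOf_dvd_natCard (w : G)))
    exact hm ▸ W₂.pow_mem (by simpa using h') m)
  have hval : ∀ (w : ↥(W₁ ⊔ W₂)), (w : G) ∉ W₂ → twist k (μ i j) ⟨w, sup_le_of_typeP hP w.2⟩ =
      δ j * (((rowPow k i).1 w : ℂ) * ((colPow k j).1 w : ℂ)) := fun w hw => by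
    rw [twist, hμ.apply_off i j _ (by simpa using pow_mem w.2 k) (hout _ hw)]
    have : (⟨((⟨w, sup_le_of_typeP hP w.2⟩ : M) ^ k : M), by simpa using pow_mem w.2 k⟩ : ↥(W₁ ⊔ W₂)) = w ^ k :=
      Subtype.ext (by simp)
    rw [this]
    simp [rowPow, colPow, map_pow, MonoidHom.pow_apply]
  obtain ⟨hne, -, hdisj, -, -, -⟩ := hP.selfNormalizing
  obtain ⟨a, ha, ha1⟩ := W₁.bot_or_exists_ne_one.resolve_left hne
  have ha2 : a ∉ W₂ := fun h => ha1 (Subgroup.mem_bot.mp (hdisj.le ⟨ha, h⟩))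
  by_cases hex : ∀ i' j', twist k (μ i j) ≠ μ i' j'
  · have h0 := hμ.other _ hirr hex ⟨a, sup_le_of_typeP hP (Subgroup.mem_sup_left ha)⟩ (Subgroup.mem_sup_left ha) ha2
    rw [hval ⟨a, Subgroup.mem_sup_left ha⟩ ha2] at h0
    exfalso
    refine mul_ne_zero ?_ (mul_ne_zero (Units.ne_zero _) (Units.ne_zero _)) h0
    rcases hμ.sign j with e | e <;> simp [e]
  · push Not at hex
    obtain ⟨i', j', e⟩ := hex
    obtain ⟨rfl, rfl, hs⟩ := IsGrid.eq_of_apply hG hP (hμ.sign j') (hμ.sign j) (i := i') (i' := rowPow k i)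
      (j := j') (j' := colPow k j) fun w hw => by
        rw [← hval w hw, e, hμ.apply_off i' j' ⟨w, sup_le_of_typeP hP w.2⟩ w.2 hw]
    exact ⟨e, hs⟩

end Cfsg.Lib.Char.FT
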